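import Mathlib
import Cfsg.Agent.Lib.Helper10.BR0
import Cfsg.Agent.Lib.Helper83.Ortho

/-! S0999 (Brauer–Reynolds) piece BR-T1: `Σ_Y θ(x) = -ε` on `P \ {1}`. -/

set_option autoImplicit false

namespace Cfsg.Agent.Lib.Helper10.BR

open Cfsg
open Cfsg.Agent.Lib.Helper83 (trivIrr)
open scoped ComplexConjugate

section T

variable {G : Type*} [Group G] [Fintype G] {p e t : ℕ} {P : Subgroup G} {ε : ℤ} {x₀ : ℕ}
  {A B Y D : Finset (IrrCharacter G)}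

/-- BR-T1 -/
theorem sumY (h : Tab G p e t P ε x₀ A B Y D) (x : G) (hx : x ∈ P) (hx1 : x ≠ 1) :
    ∑ θ ∈ Y, (θ : G → ℂ) x = -(ε : ℂ) := by
  classical
  haveI : Finite (IrrCharacter G) := Cfsg.Agent.Lib.Helper83.irr_finite
  letI : Fintype (IrrCharacter G) := Fintype.ofFinite _
  have hnc : ¬ IsConj (1 : G) x := by
    rw [isConj_one_right]; exact hx1
  have hcol := Cfsg.Agent.Lib.Helper83.column_orthogonality_not_conj hnc
  rw [h.sum_split] at hcol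
  have hreal : ∀ ψ : IrrCharacter G, conj ((ψ : G → ℂ) 1) = (ψ : G → ℂ) 1 := by
    intro ψ
    rw [(Cfsg.Agent.Lib.Helper83.irr_degree ψ.2).2, Complex.conj_natCast]
  have hA : ∑ ψ ∈ A, (ψ : G → ℂ) x * conj ((ψ : G → ℂ) 1)
      = (A.card : ℂ) * ((t * (p - e) : ℕ) : ℂ) := by
    rw [Finset.sum_congr rfl (fun ψ hψ => by
      rw [hreal, h.valA ψ hψ x hx hx1, h.degA ψ hψ, one_mul]), Finset.sum_const, nsmul_eq_mul]
  have hB : ∑ ψ ∈ B, (ψ : G → ℂ) x * conj ((ψ : G → ℂ) 1)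
      = -((B.card : ℂ) * ((p - 1 : ℕ) : ℂ)) := by
    rw [Finset.sum_congr rfl (fun ψ hψ => by
      rw [hreal, h.valB ψ hψ x hx hx1, h.degB ψ hψ, neg_one_mul]), Finset.sum_const,
      nsmul_eq_mul, mul_neg]
  have hY : ∑ ψ ∈ Y, (ψ : G → ℂ) x * conj ((ψ : G → ℂ) 1)
      = (∑ ψ ∈ Y, (ψ : G → ℂ) x) * (x₀ : ℂ) := by
    rw [Finset.sum_mul]
    exact Finset.sum_congr rfl (fun ψ hψ => by rw [hreal, h.degY ψ hψ])
  have hD : ∑ ψ ∈ D, (ψ : G → ℂ) x * conj ((ψ : G → ℂ) 1) = 0 := by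
    apply Finset.sum_eq_zero
    intro ψ hψ
    rw [h.valD ψ hψ x hx hx1, zero_mul]
  have htriv : (trivIrr G : G → ℂ) x * conj ((trivIrr G : G → ℂ) 1) = 1 := by
    rw [Cfsg.Agent.Lib.Helper83.trivIrr_apply, Cfsg.Agent.Lib.Helper83.trivIrr_apply]
    simp
  rw [htriv, hA, hB, hY, hD] at hcol
  -- the degree equation
  have hYne : Y.Nonempty := by
    rw [← Finset.card_pos, h.cardY]
    have := h.ht
    omega
  obtain ⟨θ, hθ⟩ := hYne
  have hp1 : ¬ p ∣ orderOf (1 : G) := by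
    rw [orderOf_one]
    exact h.hp.one_lt.ne' ∘ Nat.dvd_one.mp
  have hDE := h.t1 θ hθ 1 hp1
  rw [h.degY θ hθ, Finset.sum_congr rfl (fun ψ hψ => h.degA ψ hψ),
    Finset.sum_congr rfl (fun ψ hψ => h.degB ψ hψ), Finset.sum_const, Finset.sum_const,
    nsmul_eq_mul, nsmul_eq_mul] at hDE
  have hx0 : (x₀ : ℂ) ≠ 0 := by
    have := h.x₀_ge
    exact_mod_cast (by omega : x₀ ≠ 0)
  have hfin : ((∑ ψ ∈ Y, (ψ : G → ℂ) x) + (ε : ℂ)) * (x₀ : ℂ) = 0 := by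
    linear_combination hcol + hDE
  rcases mul_eq_zero.mp hfin with h0 | h0
  · exact eq_neg_of_add_eq_zero_left h0
  · exact absurd h0 hx0

end T

end Cfsg.Agent.Lib.Helper10.BR
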