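import Mathlib
import Cfsg.Agent.S1010
import Cfsg.Agent.Lib.Helper23.Syl
import Cfsg.Agent.Lib.Helper23.Syl2
import Cfsg.Agent.Lib.Helper23.ExcGroup
import Cfsg.Agent.Lib.Helper76.SylPrime
import Cfsg.Agent.Lib.Helper11.S4274Tools

/-!
# S0983 piece T1MAIN (helper29): the Sylow data `(d, c, r)` of a simple group for a prime `p`
dividing the order exactly once
-/

set_option autoImplicit false

namespace Cfsg.Agent.S983

open Subgroup
open Cfsg.Agent.Lib.Helper23

variable {G : Type*} [Group G] [Finite G]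

/-- piece T1MAIN -/
theorem syl_data_core [IsSimpleGroup G] (hG : ¬ IsMulCommutative G) {N p : ℕ} [Fact p.Prime]
    (h : Nat.card G = N) (hp : p ∣ N) (hpp : ¬ p ^ 2 ∣ N) :
    ∃ d c r : ℕ, Nat.card (Sylow p G) = d ∧
      (∀ P : Sylow p G, Nat.card (P : Subgroup G) = p) ∧
      (∀ P : Sylow p G, Nat.card (centralizer ((P : Subgroup G) : Set G)) = p * c) ∧
      (∀ P : Sylow p G, Nat.card (normalizer ((P : Subgroup G) : Set G)) = p * c * r) ∧
      d % p = 1 ∧ d ≠ 1 ∧ p * c * r * d = N ∧ r ∣ p - 1 ∧ r ≠ 1 ∧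
      2 * N ∣ d.factorial ∧ (p = 5 → d ≠ 21) ∧
      (c = 1 → r = 2 → p ≠ 2 →
        ∃ e : ℕ, 2 ≤ e ∧ e ∣ N ∧ e + 1 ∣ N ∧ (e % p = 1 ∨ (e + 2) % p = 0)) := by
  have hpr : p.Prime := Fact.out
  have hp2 : 2 ≤ p := hpr.two_le
  obtain ⟨m, hm⟩ := hp
  have hpm : ¬ p ∣ m := by
    rintro ⟨k, hk⟩
    apply hpp
    rw [hm, hk]
    exact ⟨k, by ring⟩
  have hcard : Nat.card G = p ^ 1 * m := by rw [h, hm, pow_one]
  have hcard' : Nat.card G = p * m := by rw [h, hm]
  have hc : ∀ P : Sylow p G, Nat.card (P : Subgroup G) = p := by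
    intro P
    have h1 := sylow_card_of_eq hcard hpm P
    rwa [pow_one] at h1
  obtain ⟨P0⟩ : Nonempty (Sylow p G) := inferInstance
  obtain ⟨r, c, hr1, hr2, hC, hNm, hmul⟩ :=
    Cfsg.Agent.Lib.Helper76.SylPrime.card_centralizer_mul hG hc P0
  have hdpos : 0 < Nat.card (Sylow p G) := Nat.card_pos
  have hm1 : m ≠ 1 := by
    rintro rfl
    rw [mul_one] at hcard'
    apply hG
    have hcyc : IsCyclic G := isCyclic_of_prime_card hcard'
    exact isMulCommutative_of_isCyclic
  have hd1 : Nat.card (Sylow p G) ≠ 1 := simple_sylow_card_ne_one hcard hpm one_ne_zero hm1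
  have hidx : (normalizer ((P0 : Subgroup G) : Set G)).index = Nat.card (Sylow p G) :=
    (Sylow.card_eq_index_normalizer P0).symm
  have hntop : normalizer ((P0 : Subgroup G) : Set G) ≠ ⊤ := by
    intro htop
    rw [htop, Subgroup.index_top] at hidx
    exact hd1 hidx.symm
  have hfact := simple_two_mul_card_dvd_factorial hG (normalizer ((P0 : Subgroup G) : Set G)) hntop
  rw [hidx, h] at hfact
  refine ⟨Nat.card (Sylow p G), c, r, rfl, hc, ?_, ?_, ?_, hd1, ?_, hr1, hr2, hfact, ?_, ?_⟩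
  · intro P
    rw [Cfsg.Agent.S4274T.card_centralizer_sylow_eq p P P0, hC]
  · intro P
    have e1 := card_normalizer_sylow_mul P
    have e2 := card_normalizer_sylow_mul P0
    rw [← e2, hNm] at e1
    exact Nat.eq_of_mul_eq_mul_right hdpos e1
  · have h1 := card_sylow_mod (G := G) p
    rw [h1]
    exact Nat.mod_eq_of_lt (by omega)
  · rw [hmul, h]
  · intro hp5
    subst hp5
    exact Cfsg.Agent.S1010.result
  · intro hc1 hr2' hpne2
    have hn : Nat.card (Sylow p G) * 2 = m := by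
      rw [hc1, hr2', hcard'] at hmul
      have e1 : p * (Nat.card (Sylow p G) * 2) = p * m := by
        rw [← hmul]
        ring
      exact Nat.eq_of_mul_eq_mul_left (by omega) e1
    obtain ⟨e, he2, he, he1, hep⟩ := simple_exc_two hG hpne2 hcard' hpm hn
    rw [h] at he he1
    exact ⟨e, he2, he, he1, hep⟩

end Cfsg.Agent.S983
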