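import Mathlib
import Cfsg.Agent.S4364
import Cfsg.Agent.Lib.Helper55.Basic

/-!
# S4125, piece P2: the image of a `q`-element of prime-power class size in `G ⧸ K` lies in
`O_q(G ⧸ K)` (when `K` contains `O_r(G)` for the relevant prime `r ≠ q`).
-/

set_option autoImplicit false

namespace Cfsg.Agent.Lib.Helper29

open Cfsg.Agent.Lib

/-- Orbits under `H` are orbits under a subgroup `P` whose index is prime to the orbit length. -/
theorem exists_smul_eq_of_coprime_index {H X : Type*} [Group H] [Finite H] [MulAction H X]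
    (P : Subgroup H) (v : X) (hcop : Nat.Coprime (MulAction.stabilizer H v).index P.index)
    (h : H) : ∃ x ∈ P, x • v = h • v := by
  classical
  set S := MulAction.stabilizer H v with hS
  have h1 : S.index * P.index ∣ (P ⊓ S).index :=
    hcop.mul_dvd_of_dvd_of_dvd (Subgroup.index_dvd_of_le inf_le_right)
      (Subgroup.index_dvd_of_le inf_le_left)
  have h2 : (P ⊓ S).index ≤ P.index * S.index := Subgroup.index_inf_le
  have hne : (P ⊓ S).index ≠ 0 := Subgroup.index_ne_zero_of_finite
  have h3 : (P ⊓ S).index = S.index * P.index :=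
    le_antisymm (by rw [mul_comm]; exact h2) (Nat.le_of_dvd (Nat.pos_of_ne_zero hne) h1)
  have h4 : S.relIndex P = S.index := by
    have h5 := Subgroup.relIndex_mul_index (inf_le_left : P ⊓ S ≤ P)
    rw [Subgroup.inf_relIndex_left, h3] at h5
    exact Nat.eq_of_mul_eq_mul_right (Nat.pos_of_ne_zero Subgroup.index_ne_zero_of_finite) h5
  have hstab : MulAction.stabilizer P v = S.subgroupOf P := by
    ext x
    simp [hS, Subgroup.mem_subgroupOf, MulAction.mem_stabilizer_iff, Subgroup.smul_def]
  have h6 : (MulAction.orbit P v).ncard = (MulAction.orbit H v).ncard := by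
    rw [← MulAction.index_stabilizer, ← MulAction.index_stabilizer, hstab]
    exact h4
  have hsub : MulAction.orbit P v ⊆ MulAction.orbit H v := by
    rintro _ ⟨x, rfl⟩
    exact ⟨(x : H), rfl⟩
  have heq : MulAction.orbit P v = MulAction.orbit H v :=
    Set.eq_of_subset_of_ncard_le hsub h6.ge (Set.finite_range (fun m : H => m • v))
  have hmem : h • v ∈ MulAction.orbit P v := by
    rw [heq]; exact ⟨h, rfl⟩
  obtain ⟨x, hx⟩ := hmem
  exact ⟨x, x.2, hx⟩

variable {G : Type*} [Group G] [Finite G]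

/-- Two subgroups of coprime index factorize the group: `g = b * a`. -/
theorem exists_mul_of_coprime_index (A B : Subgroup G) (hcop : Nat.Coprime A.index B.index)
    (g : G) : ∃ b ∈ B, ∃ a ∈ A, g = b * a := by
  have hstab := MulAction.stabilizer_quotient A
  obtain ⟨b, hb, hbv⟩ := exists_smul_eq_of_coprime_index B (((1 : G) : G ⧸ A))
    (by rw [hstab]; exact hcop) g
  rw [MulAction.Quotient.smul_mk, MulAction.Quotient.smul_mk, QuotientGroup.eq] at hbv
  refine ⟨b, hb, b⁻¹ * g, ?_, by group⟩
  simpa using hbv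

/-- A `q`-element whose class has `q`-power size lies in `O_q(G)`. -/
theorem p2_qelt_mem_pCore (q : ℕ) [Fact q.Prime] (x : G) (hx : ∃ k : ℕ, orderOf x = q ^ k)
    (hi : ∃ a : ℕ, (Subgroup.centralizer ({x} : Set G)).index = q ^ a) : x ∈ Cfsg.pCore q G := by
  classical
  have hq : q.Prime := Fact.out
  obtain ⟨k, hk⟩ := hx
  obtain ⟨a, ha⟩ := hi
  have hxp : IsPGroup q (Subgroup.zpowers x) :=
    IsPGroup.of_card (n := k) (by rw [Nat.card_zpowers, hk])
  obtain ⟨Q1, hQ1⟩ := hxp.exists_le_sylow
  have hxQ : x ∈ Q1 := hQ1 (Subgroup.mem_zpowers x)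
  have hcop : Nat.Coprime (Subgroup.centralizer ({x} : Set G)).index (Q1 : Subgroup G).index := by
    rw [ha]
    exact Nat.Coprime.pow_left a ((Nat.Prime.coprime_iff_not_dvd hq).mpr Q1.not_dvd_index)
  have hle : Subgroup.normalClosure ({x} : Set G) ≤ Q1 := by
    rw [Subgroup.normalClosure, Subgroup.closure_le]
    intro y hy
    rw [Group.mem_conjugatesOfSet_iff] at hy
    obtain ⟨x', hx', hconj⟩ := hy
    rw [Set.mem_singleton_iff] at hx'
    subst hx'
    obtain ⟨g, hg⟩ := isConj_iff.mp hconj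
    obtain ⟨u, hu, c, hc, hguc⟩ :=
      exists_mul_of_coprime_index (Subgroup.centralizer ({x'} : Set G)) Q1 hcop g
    have hcx : c * x' = x' * c := by
      have := Subgroup.mem_centralizer_iff.mp hc x' (Set.mem_singleton x')
      exact this.symm
    have hy' : y = u * x' * u⁻¹ := by
      rw [← hg, hguc]
      calc u * c * x' * (u * c)⁻¹ = u * (c * x') * c⁻¹ * u⁻¹ := by group
        _ = u * x' * u⁻¹ := by rw [hcx]; group
    rw [hy']
    exact mul_mem (mul_mem hu hxQ) (inv_mem hu)
  have hN : (Subgroup.normalClosure ({x} : Set G)).Normal := Subgroup.normalClosure_normal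
  exact Helper55.le_pCore hN (Q1.isPGroup'.to_le hle)
    (Subgroup.subset_normalClosure (Set.mem_singleton x))

/-- **S4125, piece P2.** -/
theorem qelt_image_mem_pCore (q : ℕ) [Fact q.Prime] (K : Subgroup G) [K.Normal] (x : G)
    (hx : ∃ k : ℕ, orderOf x = q ^ k) (r a : ℕ) (hr : r.Prime)
    (hi : (Subgroup.centralizer ({x} : Set G)).index = r ^ a) (hK : r ≠ q → Cfsg.pCore r G ≤ K) :
    (QuotientGroup.mk' K x) ∈ Cfsg.pCore q (G ⧸ K) := by
  classical
  by_cases hrq : r = q
  · subst hrq
    have h1 := p2_qelt_mem_pCore r x hx ⟨a, hi⟩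
    have hn : ((Cfsg.pCore r G).map (QuotientGroup.mk' K)).Normal :=
      Subgroup.Normal.map Helper55.pCore_normal _ (QuotientGroup.mk'_surjective K)
    have hp : IsPGroup r ((Cfsg.pCore r G).map (QuotientGroup.mk' K)) :=
      Helper55.pCore_isPGroup.map _
    exact Helper55.le_pCore hn hp (Subgroup.mem_map_of_mem _ h1)
  · haveI := Fact.mk hr
    have hKr := hK hrq
    obtain ⟨k, hk⟩ := hx
    have hxk : x ^ q ^ k = 1 := by rw [← hk]; exact pow_orderOf_eq_one x
    have hconj : ∀ y ∈ Group.conjugatesOfSet ({QuotientGroup.mk' K x} : Set (G ⧸ K)),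
        ∃ g : G, y = QuotientGroup.mk' K (g * x * g⁻¹) := by
      intro y hy
      rw [Group.mem_conjugatesOfSet_iff] at hy
      obtain ⟨x', hx', hc⟩ := hy
      rw [Set.mem_singleton_iff] at hx'
      subst hx'
      obtain ⟨c, hc⟩ := isConj_iff.mp hc
      obtain ⟨g, rfl⟩ := QuotientGroup.mk'_surjective K c
      exact ⟨g, by rw [← hc, map_mul, map_mul, map_inv]⟩
    have hcomm : ∀ y ∈ Group.conjugatesOfSet ({QuotientGroup.mk' K x} : Set (G ⧸ K)),
        ∀ z ∈ Group.conjugatesOfSet ({QuotientGroup.mk' K x} : Set (G ⧸ K)), y * z = z * y := by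
      intro y hy z hz
      obtain ⟨g, rfl⟩ := hconj y hy
      obtain ⟨h, rfl⟩ := hconj z hz
      have h1 := hKr (Cfsg.Agent.S4364.result r x ⟨a, hi⟩ g h)
      have h2 : QuotientGroup.mk' K
          (g * x * g⁻¹ * (h * x * h⁻¹) * (g * x * g⁻¹)⁻¹ * (h * x * h⁻¹)⁻¹) = 1 :=
        (QuotientGroup.eq_one_iff _).mpr h1
      rw [map_mul, map_mul, map_inv, map_inv] at h2
      exact mul_inv_eq_iff_eq_mul.mp (mul_inv_eq_one.mp h2)
    set T : Set (G ⧸ K) := Group.conjugatesOfSet ({QuotientGroup.mk' K x} : Set (G ⧸ K)) with hT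
    set N : Subgroup (G ⧸ K) := Subgroup.closure T with hN
    have hNeq : N = Subgroup.normalClosure ({QuotientGroup.mk' K x} : Set (G ⧸ K)) := rfl
    have h1 : N ≤ Subgroup.centralizer T := by
      rw [hN, Subgroup.closure_le]
      intro y hy
      rw [SetLike.mem_coe, Subgroup.mem_centralizer_iff]
      intro z hz
      exact hcomm z hz y hy
    have h2 : ∀ y ∈ N, ∀ z ∈ N, y * z = z * y := by
      intro y hy z hz
      have h3 : N ≤ Subgroup.centralizer ({y} : Set (G ⧸ K)) := by
        rw [hN, Subgroup.closure_le]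
        intro t ht
        rw [SetLike.mem_coe, Subgroup.mem_centralizer_iff]
        intro y' hy'
        rw [Set.mem_singleton_iff] at hy'
        subst hy'
        exact ((Subgroup.mem_centralizer_iff.mp (h1 hy)) t ht).symm
      exact (Subgroup.mem_centralizer_iff.mp (h3 hz)) y (Set.mem_singleton y)
    have hpow : ∀ y ∈ N, ∃ m : ℕ, y ^ q ^ m = 1 := by
      intro y hy
      induction hy using Subgroup.closure_induction with
      | mem t ht =>
        obtain ⟨g, rfl⟩ := hconj t ht
        refine ⟨k, ?_⟩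
        rw [← map_pow, conj_pow, hxk, mul_one, mul_inv_cancel, map_one]
      | one => exact ⟨0, by simp⟩
      | mul y1 y2 hy1 hy2 ih1 ih2 =>
        obtain ⟨k1, e1⟩ := ih1
        obtain ⟨k2, e2⟩ := ih2
        refine ⟨k1 + k2, ?_⟩
        have hc : Commute y1 y2 := h2 y1 hy1 y2 hy2
        rw [hc.mul_pow, pow_add, pow_mul, e1, one_pow, mul_comm (q ^ k1), pow_mul, e2, one_pow,
          one_mul]
      | inv y hy ih =>
        obtain ⟨m, e⟩ := ih
        exact ⟨m, by rw [inv_pow, e, inv_one]⟩
    have hNp : IsPGroup q N := by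
      intro g
      obtain ⟨m, e⟩ := hpow g.1 g.2
      exact ⟨m, Subtype.ext (by simpa using e)⟩
    have hNn : N.Normal := by rw [hNeq]; exact Subgroup.normalClosure_normal
    exact Helper55.le_pCore hNn hNp
      (hNeq ▸ Subgroup.subset_normalClosure (Set.mem_singleton _))

end Cfsg.Agent.Lib.Helper29
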