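import Mathlib
import Cfsg.Agent.Lib.Helper29.BaerP2

/-!
# S4125, piece P12: if all `q`-elements have `p`-power class size (`p ≠ q`), a Sylow
`q`-subgroup `Q` is abelian and `O_p(G) Q` is normal.
-/

set_option autoImplicit false

namespace Cfsg.Agent.Lib.Helper29

open Cfsg.Agent.Lib

variable {G : Type*} [Group G] [Finite G]

/-- A `q`-element centralizing a Sylow `q`-subgroup lies in it. -/
theorem mem_sylow_of_commute (q : ℕ) [Fact q.Prime] (Q : Sylow q G) (y : G)
    (hy : ∃ k : ℕ, orderOf y = q ^ k) (hc : ∀ u ∈ Q, u * y = y * u) : y ∈ Q := by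
  obtain ⟨k, hk⟩ := hy
  have hyp : IsPGroup q (Subgroup.zpowers y) :=
    IsPGroup.of_card (n := k) (by rw [Nat.card_zpowers, hk])
  have hconj : ∀ u, u ∈ Q → y * u * y⁻¹ = u := fun u hu => by rw [← hc u hu]; group
  have hle : Subgroup.zpowers y ≤ Subgroup.normalizer ((Q : Subgroup G) : Set G) := by
    rw [Subgroup.zpowers_le, Subgroup.mem_normalizer_iff]
    intro u
    constructor
    · intro hu; rw [hconj u hu]; exact hu
    · intro hu
      have h1 := hc _ hu
      have h2 : y * u = y * (y * u * y⁻¹) := by rw [← h1]; group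
      have h3 : u = y * u * y⁻¹ := mul_left_cancel h2
      rw [h3]; exact hu
  have hsup : IsPGroup q (Subgroup.zpowers y ⊔ (Q : Subgroup G) : Subgroup G) :=
    hyp.to_sup_of_normal_right' Q.isPGroup' hle
  have hmax := Q.is_maximal' hsup le_sup_right
  have hy : y ∈ Subgroup.zpowers y ⊔ (Q : Subgroup G) :=
    (le_sup_left : Subgroup.zpowers y ≤ _) (Subgroup.mem_zpowers y)
  rw [hmax] at hy
  exact hy

/-- **S4125, piece P12.** -/
theorem baer_ne_case (p q : ℕ) [Fact p.Prime] [Fact q.Prime] (hpq : p ≠ q)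
    (h : ∀ x : G, (∃ k : ℕ, orderOf x = q ^ k) →
      ∃ a : ℕ, (Subgroup.centralizer ({x} : Set G)).index = p ^ a) (Q : Sylow q G) :
    IsMulCommutative (Q : Subgroup G) ∧ (Cfsg.pCore p G ⊔ (Q : Subgroup G)).Normal := by
  classical
  have hp : p.Prime := Fact.out
  have hq : q.Prime := Fact.out
  set K := Cfsg.pCore p G with hK
  haveI hKn : K.Normal := Helper55.pCore_normal
  have hKp : IsPGroup p K := Helper55.pCore_isPGroup
  have hP2 : ∀ x : G, (∃ k : ℕ, orderOf x = q ^ k) →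
      QuotientGroup.mk' K x ∈ Cfsg.pCore q (G ⧸ K) := by
    intro x hx
    obtain ⟨a, ha⟩ := h x hx
    exact qelt_image_mem_pCore q K x hx p a hp ha (fun _ => le_rfl)
  have hQelt : ∀ x ∈ Q, ∃ k : ℕ, orderOf x = q ^ k := by
    intro x hx
    obtain ⟨k, hk⟩ := (IsPGroup.iff_orderOf.mp Q.isPGroup') ⟨x, hx⟩
    exact ⟨k, by rw [← hk, Subgroup.orderOf_mk]⟩
  set L : Subgroup G := (Cfsg.pCore q (G ⧸ K)).comap (QuotientGroup.mk' K) with hL
  haveI hLn : L.Normal := by
    haveI : (Cfsg.pCore q (G ⧸ K)).Normal := Helper55.pCore_normal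
    rw [hL]; infer_instance
  have hQL : (Q : Subgroup G) ≤ L := fun x hx => hP2 x (hQelt x hx)
  have hKL : K ≤ L := by
    intro x hx
    rw [hL, Subgroup.mem_comap]
    have h1 : QuotientGroup.mk' K x = 1 := (QuotientGroup.eq_one_iff x).mpr hx
    rw [h1]
    exact one_mem _
  have hLle : L ≤ K ⊔ (Q : Subgroup G) := by
    intro l hl
    have h1 : Cfsg.pCore q (G ⧸ K) ≤
        (Q.mapSurjective (QuotientGroup.mk'_surjective K) : Subgroup (G ⧸ K)) :=
      Helper55.pCore_le_sylow _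
    have h2 := h1 hl
    rw [Sylow.coe_mapSurjective] at h2
    obtain ⟨u, hu, hul⟩ := Subgroup.mem_map.mp h2
    have h3 : u⁻¹ * l ∈ K := QuotientGroup.eq.mp hul
    have h4 : l = u * (u⁻¹ * l) := by group
    rw [h4]
    exact mul_mem ((le_sup_right : (Q : Subgroup G) ≤ K ⊔ Q) hu)
      ((le_sup_left : K ≤ K ⊔ (Q : Subgroup G)) h3)
  have hLeq : L = K ⊔ (Q : Subgroup G) := le_antisymm hLle (sup_le hKL hQL)
  refine ⟨?_, hLeq ▸ hLn⟩
  have hcent : ∀ x ∈ Q, ∀ u ∈ Q, u * x = x * u := by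
    intro x hxQ
    obtain ⟨a, ha⟩ := h x (hQelt x hxQ)
    set C := Subgroup.centralizer ({x} : Set G) with hC
    have hnd : ¬ q ∣ Nat.card (G ⧸ C) := by
      have h1 : Nat.card (G ⧸ C) = p ^ a := ha
      rw [h1]
      intro hd
      exact hpq ((Nat.prime_dvd_prime_iff_eq hq hp).mp (hq.dvd_of_dvd_pow hd)).symm
    obtain ⟨c, hc⟩ := IsPGroup.nonempty_fixed_point_of_prime_not_dvd_card
      (G := (Q : Subgroup G)) Q.isPGroup' (G ⧸ C) hnd
    obtain ⟨g, rfl⟩ := QuotientGroup.mk_surjective c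
    have hfix : ∀ u ∈ Q, g⁻¹ * u * g ∈ C := by
      intro u hu
      have h1 := hc ⟨u, hu⟩
      have h2 : (QuotientGroup.mk (u * g) : G ⧸ C) = QuotientGroup.mk g := h1
      have h3 := QuotientGroup.eq.mp h2
      have h4 := inv_mem h3
      have h5 : g⁻¹ * u * g = ((u * g)⁻¹ * g)⁻¹ := by group
      rw [h5]; exact h4
    have hfr : Subgroup.normalizer ((Q : Subgroup G) : Set G) ⊔ L = ⊤ :=
      Sylow.normalizer_sup_eq_top' Q hQL
    have hg : g⁻¹ ∈ K ⊔ Subgroup.normalizer ((Q : Subgroup G) : Set G) := by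
      have h1 : Subgroup.normalizer ((Q : Subgroup G) : Set G) ⊔ L ≤
          K ⊔ Subgroup.normalizer ((Q : Subgroup G) : Set G) := by
        rw [hLeq]
        exact sup_le le_sup_right (sup_le le_sup_left (le_trans Subgroup.le_normalizer le_sup_right))
      exact h1 (by rw [hfr]; exact Subgroup.mem_top _)
    obtain ⟨o, ho, n, hn, hon⟩ := Subgroup.mem_sup_of_normal_left.mp hg
    have h5 : ∀ u' ∈ Q, (o * u' * o⁻¹) * x = x * (o * u' * o⁻¹) := by
      intro u' hu'
      have hnu : n⁻¹ * u' * n ∈ Q := by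
        have h1 := (Subgroup.mem_normalizer_iff.mp (inv_mem hn)) u'
        have h2 := h1.mp hu'
        rw [inv_inv] at h2
        exact h2
      have h6 := hfix _ hnu
      have h7 : g⁻¹ * (n⁻¹ * u' * n) * g = o * u' * o⁻¹ := by
        have hg' : g = (o * n)⁻¹ := by rw [hon, inv_inv]
        rw [hg']; group
      rw [h7] at h6
      exact ((Subgroup.mem_centralizer_iff.mp h6) x (Set.mem_singleton x)).symm
    set x'' := o⁻¹ * x * o with hx''
    have h8 : ∀ u' ∈ Q, u' * x'' = x'' * u' := by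
      intro u' hu'
      have h1 := h5 u' hu'
      calc u' * x'' = o⁻¹ * ((o * u' * o⁻¹) * x) * o := by rw [hx'']; group
        _ = o⁻¹ * (x * (o * u' * o⁻¹)) * o := by rw [h1]
        _ = x'' * u' := by rw [hx'']; group
    have hx''q : ∃ k : ℕ, orderOf x'' = q ^ k := by
      obtain ⟨k, hk⟩ := hQelt x hxQ
      refine ⟨k, ?_⟩
      rw [hx'', ← hk]
      have h1 : o⁻¹ * x * o = MulAut.conj o⁻¹ x := by simp
      rw [h1, MulEquiv.orderOf_eq]
    have hx''Q : x'' ∈ Q := mem_sylow_of_commute q Q x'' hx''q h8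
    have h9 : x⁻¹ * x'' ∈ K := by
      have h1 : x⁻¹ * x'' = (x⁻¹ * o⁻¹ * x⁻¹⁻¹) * o := by rw [hx'']; group
      rw [h1]
      exact mul_mem (hKn.conj_mem _ (inv_mem ho) _) ho
    have h10 : x⁻¹ * x'' ∈ (Q : Subgroup G) := mul_mem (inv_mem hxQ) hx''Q
    have hdisj : Disjoint K (Q : Subgroup G) :=
      IsPGroup.disjoint_of_ne p q hpq K Q hKp Q.isPGroup'
    have h11 : x⁻¹ * x'' = 1 :=
      Subgroup.mem_bot.mp (hdisj.le_bot (Subgroup.mem_inf.mpr ⟨h9, h10⟩))
    have h12 : x'' = x := (inv_mul_eq_one.mp h11).symm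
    intro u hu
    rw [← h12]; exact h8 u hu
  exact ⟨⟨fun a b => Subtype.ext (hcent b.1 b.2 a.1 a.2)⟩⟩

end Cfsg.Agent.Lib.Helper29
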