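import Mathlib
import Cfsg.Agent.S0519
import Cfsg.Agent.S0016

/-!
# S4125, piece X4b: structure of a `p`-group all of whose abelian normal subgroups are cyclic.
-/

set_option autoImplicit false

namespace Cfsg.Agent.Lib.Helper29

lemma x4b_conj {P : Type*} [Group P] {c j : P} (h : c * (j * c) = j) : j * c * j⁻¹ = c⁻¹ := by
  calc j * c * j⁻¹ = c⁻¹ * (c * (j * c)) * j⁻¹ := by group
    _ = c⁻¹ := by rw [h]; group

lemma x4b_quat {P : Type*} [Group P] [Finite P] (hP : IsPGroup 2 P) (n : ℕ)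
    (e : P ≃* QuaternionGroup n) :
    IsCyclic P ∨ ∃ (s : ℕ) (c j : P), 2 ≤ s ∧ orderOf c = 2 ^ s ∧
      Nat.card P = 2 ^ (s + 1) ∧ j ∉ Subgroup.zpowers c ∧
      (j * c * j⁻¹ = c⁻¹ ∨ (3 ≤ s ∧ j * c * j⁻¹ = c⁻¹ * c ^ (2 ^ (s - 1)))) ∧
      (j * j = 1 ∨ j * j = c ^ (2 ^ (s - 1))) := by
  classical
  have hn0 : n ≠ 0 := by
    rintro rfl
    haveI : Finite (QuaternionGroup 0) := Finite.of_equiv P e.toEquiv
    haveI : Infinite (QuaternionGroup 0) :=
      Infinite.of_injective _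
        QuaternionGroup.quaternionGroupZeroEquivDihedralGroupZero.symm.injective
    exact not_finite (QuaternionGroup 0)
  haveI : NeZero n := ⟨hn0⟩
  have hcard : Nat.card P = 4 * n := by
    rw [Nat.card_congr e.toEquiv, Nat.card_eq_fintype_card, QuaternionGroup.card]
  obtain ⟨k, hk⟩ := IsPGroup.iff_card.mp hP
  have hdvd : n ∣ 2 ^ k := ⟨4, by rw [← hk, hcard]; ring⟩
  obtain ⟨m, -, hnm⟩ := (Nat.dvd_prime_pow Nat.prime_two).mp hdvd
  rcases Nat.eq_zero_or_pos m with hm0 | hmpos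
  · left
    have hn1 : n = 1 := by rw [hnm, hm0, pow_zero]
    subst hn1
    haveI := QuaternionGroup.quaternionGroup_one_isCyclic
    exact isCyclic_of_surjective e.symm e.symm.surjective
  · right
    subst hnm
    refine ⟨m + 1, e.symm (QuaternionGroup.a 1), e.symm (QuaternionGroup.xa 0), by omega,
      ?_, ?_, ?_, Or.inl ?_, Or.inr ?_⟩
    · rw [MulEquiv.orderOf_eq, QuaternionGroup.orderOf_a_one, pow_succ, mul_comm]
    · rw [hcard]; ring
    · intro hmem
      rw [← mem_powers_iff_mem_zpowers, Submonoid.mem_powers_iff] at hmem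
      obtain ⟨i, hi⟩ := hmem
      have := congrArg e hi
      rw [map_pow, MulEquiv.apply_symm_apply, MulEquiv.apply_symm_apply,
        QuaternionGroup.a_one_pow] at this
      exact absurd this (by simp)
    · apply x4b_conj
      rw [← map_mul, ← map_mul, QuaternionGroup.xa_mul_a, QuaternionGroup.a_mul_xa]
      simp
    · rw [← map_mul, ← map_pow, QuaternionGroup.xa_mul_xa, QuaternionGroup.a_one_pow]
      simp

lemma x4b_dih {P : Type*} [Group P] [Finite P] (hP : IsPGroup 2 P) (n : ℕ) (hn8 : 8 ≤ n)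
    (e : P ≃* DihedralGroup n) :
    ∃ (s : ℕ) (c j : P), 2 ≤ s ∧ orderOf c = 2 ^ s ∧
      Nat.card P = 2 ^ (s + 1) ∧ j ∉ Subgroup.zpowers c ∧
      (j * c * j⁻¹ = c⁻¹ ∨ (3 ≤ s ∧ j * c * j⁻¹ = c⁻¹ * c ^ (2 ^ (s - 1)))) ∧
      (j * j = 1 ∨ j * j = c ^ (2 ^ (s - 1))) := by
  classical
  have hcard : Nat.card P = 2 * n := by
    rw [Nat.card_congr e.toEquiv, DihedralGroup.nat_card]
  obtain ⟨k, hk⟩ := IsPGroup.iff_card.mp hP
  have hdvd : n ∣ 2 ^ k := ⟨2, by rw [← hk, hcard]; ring⟩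
  obtain ⟨s, -, hns⟩ := (Nat.dvd_prime_pow Nat.prime_two).mp hdvd
  subst hns
  have hs3 : 3 ≤ s := by
    by_contra h
    push Not at h
    have : 2 ^ s ≤ 2 ^ 2 := Nat.pow_le_pow_right (by norm_num) (by omega)
    omega
  refine ⟨s, e.symm (DihedralGroup.r 1), e.symm (DihedralGroup.sr 0), by omega, ?_, ?_, ?_,
    Or.inl ?_, Or.inl ?_⟩
  · rw [MulEquiv.orderOf_eq, DihedralGroup.orderOf_r_one]
  · rw [hcard]; ring
  · intro hmem
    obtain ⟨i, hi⟩ := Subgroup.mem_zpowers_iff.mp hmem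
    have := congrArg e hi
    rw [map_zpow, MulEquiv.apply_symm_apply, MulEquiv.apply_symm_apply,
      DihedralGroup.r_one_zpow] at this
    exact absurd this (by simp)
  · apply x4b_conj
    rw [← map_mul, ← map_mul, DihedralGroup.sr_mul_r, DihedralGroup.r_mul_sr]
    simp
  · rw [← map_mul, DihedralGroup.sr_mul_self, map_one]

lemma x4b_qd {P : Type*} [Group P] (h : Cfsg.IsQuasiDihedral P) :
    ∃ (s : ℕ) (c j : P), 2 ≤ s ∧ orderOf c = 2 ^ s ∧
      Nat.card P = 2 ^ (s + 1) ∧ j ∉ Subgroup.zpowers c ∧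
      (j * c * j⁻¹ = c⁻¹ ∨ (3 ≤ s ∧ j * c * j⁻¹ = c⁻¹ * c ^ (2 ^ (s - 1)))) ∧
      (j * j = 1 ∨ j * j = c ^ (2 ^ (s - 1))) := by
  obtain ⟨n, hn3, hcard, x, y, hx, hy, hxy⟩ := h
  have h4 : 4 ≤ 2 ^ (n - 1) := by
    calc 4 = 2 ^ 2 := by norm_num
      _ ≤ 2 ^ (n - 1) := Nat.pow_le_pow_right (by norm_num) (by omega)
  have hpow : 2 ^ n = 2 * 2 ^ (n - 1) := by
    rw [← pow_succ', Nat.sub_add_cancel (by omega)]
  refine ⟨n, x, y, by omega, hx, hcard, ?_, Or.inr ⟨hn3, ?_⟩, Or.inl ?_⟩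
  · intro hmem
    obtain ⟨k, rfl⟩ := Subgroup.mem_zpowers_iff.mp hmem
    have h1 : x ^ k * x * (x ^ k)⁻¹ = x := by group
    rw [h1] at hxy
    have h2 : x ^ (2 ^ (n - 1) - 2) = 1 := by
      have h3 : x ^ (2 ^ (n - 1) - 1) = x ^ (2 ^ (n - 1) - 2) * x := by
        rw [← pow_succ]; congr 1; omega
      rw [h3] at hxy
      exact mul_eq_right.mp hxy.symm
    have h5 := orderOf_dvd_of_pow_eq_one h2
    rw [hx] at h5
    have h6 := Nat.le_of_dvd (by omega) h5
    omega
  · rw [hxy, eq_inv_mul_iff_mul_eq, ← pow_succ', Nat.sub_add_cancel (by omega)]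
  · rw [← pow_two, ← hy]; exact pow_orderOf_eq_one y

lemma x4b_mem_zpowers {P : Type*} [Group P] [Finite P] (p : ℕ) [Fact p.Prime]
    (hab : ∀ B : Subgroup P, IsMulCommutative B → IsCyclic B)
    (z : P) (hz : z ∈ Subgroup.center P) (hzo : orderOf z = p) (g : P) (hgo : orderOf g = p) :
    g ∈ Subgroup.zpowers z := by
  classical
  have hp : p.Prime := Fact.out
  by_contra hg
  have hcomm : ∀ (a : Subgroup.zpowers z) (b : Subgroup.zpowers g),
      Commute ((Subgroup.zpowers z).subtype a) ((Subgroup.zpowers g).subtype b) := by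
    intro a b
    have ha : (a : P) ∈ Subgroup.center P := (Subgroup.zpowers_le.mpr hz) a.2
    exact (Subgroup.mem_center_iff.mp ha b).symm
  set f : Subgroup.zpowers z × Subgroup.zpowers g →* P :=
    MonoidHom.noncommCoprod (Subgroup.zpowers z).subtype (Subgroup.zpowers g).subtype hcomm
    with hf
  set B : Subgroup P := f.range with hB
  haveI : IsMulCommutative B := by rw [hB]; infer_instance
  have hBc : IsCyclic B := hab B inferInstance
  have hexp : Monoid.exponent B = Nat.card B := IsCyclic.exponent_eq_card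
  have hdvd : Monoid.exponent B ∣ p := by
    apply Monoid.exponent_dvd_of_forall_pow_eq_one
    rintro ⟨x, a, rfl⟩
    apply Subtype.ext
    have ha : a ^ p = 1 := by
      apply Prod.ext
      · have := pow_card_eq_one' (x := a.1)
        rw [Nat.card_zpowers, hzo] at this
        simpa using this
      · have := pow_card_eq_one' (x := a.2)
        rw [Nat.card_zpowers, hgo] at this
        simpa using this
    show (f a) ^ p = 1
    rw [← map_pow, ha, map_one]
  have hZle : Subgroup.zpowers z ≤ B :=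
    Subgroup.zpowers_le.mpr ⟨(⟨z, Subgroup.mem_zpowers z⟩, 1), by simp [hf]⟩
  have hgB : g ∈ B := ⟨(1, ⟨g, Subgroup.mem_zpowers g⟩), by simp [hf]⟩
  have hcardB : Nat.card B ≤ p := by rw [← hexp]; exact Nat.le_of_dvd hp.pos hdvd
  have hEq : Subgroup.zpowers z = B :=
    Subgroup.eq_of_le_of_card_ge hZle (by rw [Nat.card_zpowers, hzo]; exact hcardB)
  exact hg (hEq ▸ hgB)

/-- **S4125, piece X4b.** -/
theorem pgroup_structure {P : Type*} [Group P] [Finite P] (p : ℕ) [Fact p.Prime]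
    (hP : IsPGroup p P)
    (hn : ∀ A : Subgroup P, A.Normal → IsMulCommutative A → IsCyclic A) :
    IsCyclic P ∨ (p = 2 ∧ ∃ (s : ℕ) (c j : P), 2 ≤ s ∧ orderOf c = 2 ^ s ∧
      Nat.card P = 2 ^ (s + 1) ∧ j ∉ Subgroup.zpowers c ∧
      (j * c * j⁻¹ = c⁻¹ ∨ (3 ≤ s ∧ j * c * j⁻¹ = c⁻¹ * c ^ (2 ^ (s - 1)))) ∧
      (j * j = 1 ∨ j * j = c ^ (2 ^ (s - 1)))) := by
  classical
  have hp : p.Prime := Fact.out
  by_cases hm : ∃ B : Subgroup P, IsMulCommutative B ∧ ¬ IsCyclic B
  · obtain ⟨hp2, h⟩ := Cfsg.Agent.S0519.result p hP hn hm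
    subst hp2
    rcases h with ⟨n, ⟨e⟩⟩ | ⟨n, hn8, ⟨e⟩⟩ | hqd
    · rcases x4b_quat hP n e with h | h
      · exact Or.inl h
      · exact Or.inr ⟨rfl, h⟩
    · exact Or.inr ⟨rfl, x4b_dih hP n hn8 e⟩
    · exact Or.inr ⟨rfl, x4b_qd hqd⟩
  · have hab : ∀ B : Subgroup P, IsMulCommutative B → IsCyclic B := by
      intro B hB
      by_contra hc
      exact hm ⟨B, hB, hc⟩
    have huniq : ∀ H K : Subgroup P, Nat.card H = p → Nat.card K = p → H = K := by
      intro H K hH hK
      haveI : Nontrivial P := by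
        have h1 : 1 < Nat.card H := by rw [hH]; exact hp.one_lt
        haveI : Nontrivial H := Finite.one_lt_card_iff_nontrivial.mp h1
        obtain ⟨a, b, hab'⟩ := exists_pair_ne H
        exact ⟨⟨(a : P), (b : P), fun h => hab' (Subtype.ext h)⟩⟩
      haveI : Nontrivial (Subgroup.center P) := hP.center_nontrivial
      obtain ⟨k, hk⟩ := IsPGroup.iff_card.mp (hP.to_subgroup (Subgroup.center P))
      have hk0 : k ≠ 0 := by
        rintro rfl
        have := Finite.one_lt_card (α := Subgroup.center P)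
        rw [hk] at this
        simp at this
      have hpd : p ∣ Nat.card (Subgroup.center P) := by
        rw [hk]; exact dvd_pow_self p hk0
      obtain ⟨z, hz⟩ := exists_prime_orderOf_dvd_card' p hpd
      have hzo : orderOf (z : P) = p := by rw [Subgroup.orderOf_coe, hz]
      have key : ∀ L : Subgroup P, Nat.card L = p → L = Subgroup.zpowers (z : P) := by
        intro L hL
        refine Subgroup.eq_of_le_of_card_ge ?_ (by rw [Nat.card_zpowers, hzo, hL])
        intro x hx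
        by_cases hx1 : x = 1
        · rw [hx1]; exact one_mem _
        · have h1 : orderOf x ∣ p := by rw [← hL]; exact Subgroup.orderOf_dvd_natCard L hx
          have h2 : orderOf x = p := by
            rcases (Nat.dvd_prime hp).mp h1 with h | h
            · exact absurd (orderOf_eq_one_iff.mp h) hx1
            · exact h
          exact x4b_mem_zpowers p hab (z : P) z.2 hzo x h2
      rw [key H hH, key K hK]
    rcases Cfsg.Agent.S0016.result p hP huniq with h | ⟨hp2, n, ⟨e⟩⟩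
    · exact Or.inl h
    · subst hp2
      rcases x4b_quat hP (2 ^ n) e with h | h
      · exact Or.inl h
      · exact Or.inr ⟨rfl, h⟩

end Cfsg.Agent.Lib.Helper29
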