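import Mathlib
import Cfsg.Agent.Lib.Helper25.ChevOrderFinal
import Cfsg.Agent.Lib.Helper25.InvChevDefs
import Cfsg.Agent.Lib.Helper25.StChev2
import Cfsg.Agent.Lib.Helper25.ChevUpAll

/-!
# Involution classes of Chevalley groups in characteristic two, piece CF

A word of fundamental reflections fixing all fundamental roots has its matrix in `H`; two words
with the same root permutation have matrices in the same coset of `H`.
-/

set_option autoImplicit false

namespace Cfsg.Agent.Lib.Helper25

open Cfsg Cfsg.Lie Matrix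
open Cfsg.Agent.Lib.Helper8 Cfsg.Agent.Lib.Helper24

section

variable {F : Type*} [Field F]

/-- faithfulness: a word fixing the fundamental roots has its matrix in `H` -/
theorem cf_faithful (D : ChevalleyDatum)
    (hD : D ∈ [chevG2, chevB2, chevD4, chevF4, chevE6, chevE7, chevE8])
    (L : List ℕ) (hL : ∀ i ∈ L, i < D.rank)
    (hfix : ∀ i < D.rank, wPi D L (D.simple i) = D.simple i) :
    ∃ h ∈ D.diagonalSubgroup F, (h : Matrix D.Idx D.Idx F) = nWordMat F D L := by
  have hD' : D ∈ chevList := hD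
  obtain ⟨g, hg, hgc⟩ := exists_nWordGL (F := F) D hD L hL
  have hgN : g ∈ D.monomialSubgroup F := simple_n_le_monomial D hD hgc
  have hgG : g ∈ D.group F := monomialSubgroup_le_group D hD' hgN
  let nN : (chevBN (F := F) D hD).N := ⟨⟨g, hgG⟩, Subgroup.mem_subgroupOf.2 hgN⟩
  have hUB : D.posUnipotent F ≤ D.borelSubgroup F := le_sup_left
  have hcl : cl (chevBN (F := F) D hD) nN = 1 := by
    by_contra hne
    obtain ⟨s, hs, hd⟩ := (SW_invGen (chevBN (F := F) D hD)).exists_right_descent hne
    obtain ⟨σ', hσ', rfl⟩ := hs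
    obtain ⟨i, hi, hσi⟩ := hσ'
    have hσeq : σ' = stSigma (F := F) D hD i :=
      Subtype.ext (Units.ext (hσi.trans (stSigma_val D hD i hi).symm))
    subst hσeq
    have hp : D.simple i < D.nroots := simple_lt D hD' i hi
    have hpos : D.IsPosRoot (D.simple i) := (upChk_all D hD i hi).1
    have hB : ∀ (t : F) (y : GL D.Idx F),
        (y : Matrix D.Idx D.Idx F) = D.x F (D.simple i) t →
        ((nN : ↥(D.group F)) : GL D.Idx F) * y * ((nN : ↥(D.group F)) : GL D.Idx F)⁻¹ ∈
          D.borelSubgroup F := by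
      intro t y hy
      apply hUB
      unfold ChevalleyDatum.posUnipotent
      apply Subgroup.subset_closure
      refine ⟨D.simple i, ((wEta D L (D.simple i) : ℤ) : F) * t, hpos, ?_⟩
      have hc := nWordMat_conj (F := F) D hD L hL (D.simple i) hp t
      rw [hfix i hi] at hc
      show ((g * y * g⁻¹ : GL D.Idx F) : Matrix D.Idx D.Idx F) = _
      rw [Units.val_mul, Units.val_mul, hy, hg, hc, Matrix.mul_assoc, ← hg, ← Units.val_mul,
        mul_inv_cancel, Units.val_one, Matrix.mul_one]
    have h1 := st_not_desc D hD nN i hi hB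
    apply h1
    have hd' : len (SW (chevBN (F := F) D hD)) (cl (chevBN (F := F) D hD) nN *
          cl (chevBN (F := F) D hD) (sN (chevBN (F := F) D hD) (stSigma_mem D hD i hi))) + 1 =
        len (SW (chevBN (F := F) D hD)) (cl (chevBN (F := F) D hD) nN) := hd
    omega
  have hgB : g ∈ D.borelSubgroup F := by
    have h1 : (nN : ↥(D.group F)) ∈ (chevBN (F := F) D hD).B := cl_eq_one_iff.mp hcl
    exact Subgroup.mem_subgroupOf.1 h1
  have hgH : g ∈ D.diagonalSubgroup F := by
    rw [← borel_inf_monomial D hD']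
    exact Subgroup.mem_inf.2 ⟨hgB, hgN⟩
  exact ⟨g, hgH, hg⟩

/-- CF -/
theorem inv_chev_word_coset (D : ChevalleyDatum)
    (hD : D ∈ [chevG2, chevB2, chevD4, chevF4, chevE6, chevE7, chevE8])
    (ω v : List ℕ) (hω : ∀ i ∈ ω, i < D.rank) (hv : ∀ i ∈ v, i < D.rank)
    (hfix : ∀ i < D.rank, wPi D (ω ++ v.reverse) (D.simple i) = D.simple i) :
    ∃ h ∈ D.diagonalSubgroup F,
      nWordMat F D ω = (h : Matrix D.Idx D.Idx F) * nWordMat F D v := by
  have hD' : D ∈ chevList := hD
  have hvr : ∀ i ∈ v.reverse, i < D.rank := fun i hi => hv i (List.mem_reverse.1 hi)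
  have hωvr : ∀ i ∈ ω ++ v.reverse, i < D.rank := by
    intro i hi
    rcases List.mem_append.1 hi with h | h
    · exact hω i h
    · exact hvr i h
  have hvrv : ∀ i ∈ v.reverse ++ v, i < D.rank := by
    intro i hi
    rcases List.mem_append.1 hi with h | h
    · exact hvr i h
    · exact hv i h
  have hfix2 : ∀ i < D.rank, wPi D (v.reverse ++ v) (D.simple i) = D.simple i := by
    intro i hi
    rw [wPi_append]
    have h := wPi_reverse_cancel D hD v.reverse hvr (D.simple i) (simple_lt D hD' i hi)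
    rw [List.reverse_reverse] at h
    exact h
  obtain ⟨h1, hh1, e1⟩ := cf_faithful (F := F) D hD (ω ++ v.reverse) hωvr hfix
  obtain ⟨h2, hh2, e2⟩ := cf_faithful (F := F) D hD (v.reverse ++ v) hvrv hfix2
  obtain ⟨gω, hgω, -⟩ := exists_nWordGL (F := F) D hD ω hω
  obtain ⟨gv, hgv, hgvc⟩ := exists_nWordGL (F := F) D hD v hv
  obtain ⟨gr, hgr, -⟩ := exists_nWordGL (F := F) D hD v.reverse hvr
  have hgvN : gv ∈ D.monomialSubgroup F := simple_n_le_monomial D hD hgvc
  have E1 : gω * gr = h1 := by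
    apply Units.ext
    rw [Units.val_mul, hgω, hgr, e1, nWordMat_append]
  have E2 : gr * gv = h2 := by
    apply Units.ext
    rw [Units.val_mul, hgr, hgv, e2, nWordMat_append]
  have hnorm := monomial_le_normalizer_diagonal D hD' hgvN
  have hconj : gv * h2⁻¹ * gv⁻¹ ∈ D.diagonalSubgroup F :=
    ((Subgroup.mem_set_normalizer_iff.1 hnorm) _).1 (inv_mem hh2)
  refine ⟨h1 * (gv * h2⁻¹ * gv⁻¹), mul_mem hh1 hconj, ?_⟩
  have E3 : gω = h1 * (gv * h2⁻¹ * gv⁻¹) * gv := by
    rw [← E1, ← E2]
    group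
  rw [← hgω, ← hgv, ← Units.val_mul, ← E3]

end

end Cfsg.Agent.Lib.Helper25
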