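import Mathlib
import Cfsg.Agent.Lib.Helper25.ChevOrderFinal
import Cfsg.Agent.Lib.Helper25.InvChevDefs
import Cfsg.Agent.Lib.Helper25.InvDefs
import Cfsg.Agent.Lib.Helper25.StChev2
import Cfsg.Agent.Lib.Helper75.CoxR
import Cfsg.Agent.Lib.Helper68.CoxLR
import Cfsg.Agent.Lib.Helper25.InvIE
import Cfsg.Agent.Lib.Helper6.InvCC

/-!
# Piece CR (core): reduction of involutions of a Chevalley group to `h * nWordMat v`

The statement of CR with the conclusions of the pieces CA (`inv_chev_hyps`) and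
CB (`inv_chev_cond`) as explicit hypotheses `hyps` and `hcond`.
-/

set_option autoImplicit false

namespace Cfsg.Agent.Lib.Helper25

open Cfsg Cfsg.Lie Matrix
open Cfsg.Agent.Lib.Helper8 Cfsg.Agent.Lib.Helper24

section

variable {F : Type*} [Field F]

/-- CR, with the pieces CA and CB as hypotheses. -/
theorem inv_chev_reduce_of [Fintype F] [CharP F 2] (D : ChevalleyDatum)
    (hD : D ∈ [chevG2, chevB2, chevD4, chevF4, chevE6, chevE7, chevE8])
    (hyps :
      (∀ b ∈ (chevBN (F := F) D hD).B, ∃ u ∈ (D.posUnipotent F).subgroupOf (D.group F),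
        ∃ h ∈ (chevBN (F := F) D hD).B ⊓ (chevBN (F := F) D hD).N, b = u * h) ∧
      (D.posUnipotent F).subgroupOf (D.group F) ≤ (chevBN (F := F) D hD).B ∧
      (∀ u ∈ (D.posUnipotent F).subgroupOf (D.group F), ∀ g : ↥(D.group F),
        g * u * g⁻¹ ∈ (chevBN (F := F) D hD).B →
          g * u * g⁻¹ ∈ (D.posUnipotent F).subgroupOf (D.group F)) ∧
      (∀ u ∈ (D.posUnipotent F).subgroupOf (D.group F),
        u ∈ (chevBN (F := F) D hD).N → u = 1) ∧
      (D.diagonalSubgroup F).subgroupOf (D.group F) ≤ (chevBN (F := F) D hD).N)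
    (hcond : ∀ (v : List ℕ) (_hv : ∀ i ∈ v, i < D.rank)
      (n : (chevBN (F := F) D hD).N) (h : GL D.Idx F) (_hh : h ∈ D.diagonalSubgroup F)
      (_hn : (((n : ↥(D.group F)) : GL D.Idx F) : Matrix D.Idx D.Idx F) =
        (h : Matrix D.Idx D.Idx F) * nWordMat F D v)
      (i : ℕ) (hi : i < D.rank)
      (_hc : len (SW (chevBN (F := F) D hD)) (cl (chevBN (F := F) D hD) n *
              cl (chevBN (F := F) D hD) (sN (chevBN (F := F) D hD) (stSigma_mem D hD i hi))) <
            len (SW (chevBN (F := F) D hD)) (cl (chevBN (F := F) D hD) n) ∨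
          cl (chevBN (F := F) D hD) (sN (chevBN (F := F) D hD) (stSigma_mem D hD i hi)) *
              cl (chevBN (F := F) D hD) n =
            cl (chevBN (F := F) D hD) n *
              cl (chevBN (F := F) D hD) (sN (chevBN (F := F) D hD) (stSigma_mem D hD i hi))),
      D.IsNegRoot (wPi D v (D.simple i)) ∨ wPi D v (D.simple i) = D.simple i)
    {l : ℕ}
    (M : CoxeterMatrix (Fin l)) (hl : D.rank = l)
    (hweyl : ∃ φ : ↥(D.monomialSubgroup F) →* M.Group, Function.Surjective φ ∧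
      φ.ker = (D.diagonalSubgroup F).subgroupOf (D.monomialSubgroup F) ∧
      ∀ (i : Fin l) (g : ↥(D.monomialSubgroup F)),
        ((g : GL D.Idx F) : Matrix D.Idx D.Idx F) = D.nMat F (D.simple i) 1 →
          φ g = M.simple i)
    (ML : List (List ℕ)) (cart : List (List ℤ)) (levels : List LevelData)
    (hlen : levels.length = l) (hM : ∀ i j : Fin l, M i j = tbl ML i j)
    (hchain : chainOK ML cart l 0 levels = true)
    (hpos : posChkAll D 0 levels = true)
    (surv : List (List ℕ))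
    (hsurv : ∀ v ∈ allWords levels, (∀ i ∈ v, i < D.rank) →
      (∀ i < D.rank, D.IsNegRoot (wPi D v (D.simple i)) ∨ wPi D v (D.simple i) = D.simple i) →
      v ∈ surv)
    (t : GL D.Idx F) (ht : t ∈ D.group F) (h2 : t * t = 1) :
    ∃ g ∈ D.group F, ∃ v ∈ surv, (∀ i ∈ v, i < D.rank) ∧ ∃ h ∈ D.diagonalSubgroup F,
      ((g * t * g⁻¹ : GL D.Idx F) : Matrix D.Idx D.Idx F) =
        (h : Matrix D.Idx D.Idx F) * nWordMat F D v := by
  classical
  obtain ⟨hBU, hUB, hUc, hUN, hHN⟩ := hyps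
  have h0 := st_noAsc (F := F) D hD
  obtain ⟨g, n, hg, hdich⟩ := inv_conj_to_N (chevBN (F := F) D hD)
    ((D.posUnipotent F).subgroupOf (D.group F)) ((D.diagonalSubgroup F).subgroupOf (D.group F))
    hBU hUB hUc hUN hHN h0 (⟨t, ht⟩ : ↥(D.group F)) (Subtype.ext h2)
  have hnN : ((n : ↥(D.group F)) : GL D.Idx F) ∈ D.monomialSubgroup F :=
    Subgroup.mem_subgroupOf.1 n.2
  obtain ⟨v, hv, hvr, h, hh, hn⟩ :=
    inv_chev_word D hD M hl hweyl ML cart levels hlen hM hchain hpos _ hnN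
  refine ⟨(g : GL D.Idx F), g.2, v, hsurv v hv hvr ?_, hvr, h, hh, ?_⟩
  · intro i hi
    exact hcond v hvr n h hh hn i hi
      (hdich _ (mem_SW (chevBN (F := F) D hD) (stSigma_mem D hD i hi)))
  · rw [← hn]
    exact congrArg (fun x : ↥(D.group F) => ((x : GL D.Idx F) : Matrix D.Idx D.Idx F)) hg

end

end Cfsg.Agent.Lib.Helper25
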