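import Mathlib
import Cfsg.Prelude.Def_GeometricClasses
import Cfsg.Prelude.Def_LieClassical
import Cfsg.Agent.Lib.Helper71.Asch5
import Cfsg.Agent.Lib.Helper82.ASB8UNITS
import Cfsg.Agent.Lib.Helper44.BADDefs

/-! Project BAD (helper44; sub-project of helper49's SUG = S5663), piece STRANS (helper29):
the unitary matrices are transitive on the non-scalar elements of `bS`. -/

set_option autoImplicit false

namespace Cfsg.Agent.Lib.Helper44.BAD

open Matrix Cfsg.Geo Cfsg.Agent.Lib.Helper71.Asch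
open scoped Kronecker

variable {n : ℕ} {F : Type*} [Field F] [Fintype F] {q : ℕ}

theorem STRANS_two (hF : Fintype.card F = 4) : (2 : F) = 0 := by
  have h4 : ((4 : ℕ) : F) = 0 := by rw [← hF]; exact Nat.cast_card_eq_zero F
  have h : (2 : F) * 2 = 0 := by
    have h' : ((4 : ℕ) : F) = 2 * 2 := by norm_num
    rw [← h']; exact h4
  exact mul_self_eq_zero.mp h

theorem STRANS_cube (hF : Fintype.card F = 4) (x : F) (hx : x ≠ 0) : x ^ 3 = 1 := by
  have h := FiniteField.pow_card_sub_one_eq_one x hx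
  rwa [hF] at h

theorem STRANS_omega (hF : Fintype.card F = 4) : ∃ ω : F, ω ≠ 0 ∧ ω ≠ 1 := by
  classical
  by_contra h
  have h' : ∀ x : F, x = 0 ∨ x = 1 := by
    intro x
    by_contra hx
    exact h ⟨x, fun h0 => hx (Or.inl h0), fun h1 => hx (Or.inr h1)⟩
  have hle : Fintype.card F ≤ 2 := by
    calc Fintype.card F = (Finset.univ : Finset F).card := rfl
      _ ≤ ({0, 1} : Finset F).card := Finset.card_le_card (fun x _ => by
          rcases h' x with h0 | h1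
          · simp [h0]
          · simp [h1])
      _ ≤ 2 := Finset.card_le_two
  omega

omit [Fintype F] in
theorem STRANS_cases (ω : F) (hs : ω ^ 2 + ω + 1 = 0) (h3 : ω ^ 3 = 1) (x : F) (hx : x ^ 3 = 1) :
    x = 1 ∨ x = ω ∨ x = ω ^ 2 := by
  have h : (x - 1) * ((x - ω) * (x - ω ^ 2)) = 0 := by
    linear_combination hx - x ^ 2 * hs + x * hs + (x - 1) * h3
  rcases mul_eq_zero.mp h with h1 | h1
  · left; exact sub_eq_zero.mp h1
  · rcases mul_eq_zero.mp h1 with h2 | h2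
    · right; left; exact sub_eq_zero.mp h2
    · right; right; exact sub_eq_zero.mp h2

theorem STRANS_map_mul (hF : Fintype.card F = 4) (A B : Matrix (Fin 3) (Fin 3) F) :
    (A * B).map (fun x : F => x ^ 2) =
      A.map (fun x : F => x ^ 2) * B.map (fun x : F => x ^ 2) := by
  have h2 := STRANS_two hF
  ext i j
  simp only [Matrix.map_apply, Matrix.mul_apply, Fin.sum_univ_three]
  linear_combination (A i 0 * B 0 j * (A i 1 * B 1 j) + A i 0 * B 0 j * (A i 2 * B 2 j) +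
    A i 1 * B 1 j * (A i 2 * B 2 j)) * h2

theorem STRANS_mul (hF : Fintype.card F = 4) (g h : Matrix (Fin 3) (Fin 3) F)
    (hg : g ∈ bU F 2) (hh : h ∈ bU F 2) : g * h ∈ bU F 2 := by
  have hg' : gᵀ * g.map (fun x : F => x ^ 2) = 1 := hg
  have hh' : hᵀ * h.map (fun x : F => x ^ 2) = 1 := hh
  show (g * h)ᵀ * (g * h).map (fun x : F => x ^ 2) = 1
  rw [STRANS_map_mul hF, Matrix.transpose_mul]
  calc hᵀ * gᵀ * (g.map (fun x : F => x ^ 2) * h.map (fun x : F => x ^ 2))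
      = hᵀ * (gᵀ * g.map (fun x : F => x ^ 2)) * h.map (fun x : F => x ^ 2) := by
        simp only [Matrix.mul_assoc]
    _ = 1 := by rw [hg', Matrix.mul_one]; exact hh'

theorem STRANS_sq_sq (hF : Fintype.card F = 4) (x : F) : (x ^ 2) ^ 2 = x := by
  by_cases hx : x = 0
  · rw [hx]; norm_num
  · have h := STRANS_cube hF x hx
    linear_combination x * h

theorem STRANS_inv (hF : Fintype.card F = 4) (g : Matrix (Fin 3) (Fin 3) F) (hg : g ∈ bU F 2) :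
    ∃ h ∈ bU F 2, h * g = 1 ∧ g * h = 1 := by
  have hg' : gᵀ * g.map (fun x : F => x ^ 2) = 1 := hg
  have hσσ : ∀ A : Matrix (Fin 3) (Fin 3) F,
      (A.map (fun x : F => x ^ 2)).map (fun x : F => x ^ 2) = A := by
    intro A
    ext i j
    simp only [Matrix.map_apply]
    exact STRANS_sq_sq hF _
  have hone : (1 : Matrix (Fin 3) (Fin 3) F).map (fun x : F => x ^ 2) = 1 :=
    Matrix.map_one _ (by norm_num) (by norm_num)
  have h1 : (g.map (fun x : F => x ^ 2))ᵀ * g = 1 := by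
    have h := congrArg (fun A : Matrix (Fin 3) (Fin 3) F => A.map (fun x : F => x ^ 2)) hg'
    rw [STRANS_map_mul hF, hσσ, hone] at h
    rw [← Matrix.transpose_map]
    exact h
  have h2 : g * (g.map (fun x : F => x ^ 2))ᵀ = 1 := mul_eq_one_comm.mp h1
  refine ⟨(g.map (fun x : F => x ^ 2))ᵀ, ?_, h1, h2⟩
  show ((g.map (fun x : F => x ^ 2))ᵀ)ᵀ * ((g.map (fun x : F => x ^ 2))ᵀ).map (fun x : F => x ^ 2) = 1
  have h := congrArg (fun A : Matrix (Fin 3) (Fin 3) F => A.map (fun x : F => x ^ 2)) h2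
  rw [STRANS_map_mul hF, hone] at h
  rw [Matrix.transpose_transpose]
  exact h

theorem STRANS_symm (hF : Fintype.card F = 4) (M M' : Matrix (Fin 3) (Fin 3) F)
    (h : ∃ g ∈ bU F 2, g * M = M' * g) : ∃ g ∈ bU F 2, g * M' = M * g := by
  obtain ⟨g, hg, hgM⟩ := h
  obtain ⟨k, hk, hkg, hgk⟩ := STRANS_inv hF g hg
  refine ⟨k, hk, ?_⟩
  calc k * M' = k * M' * (g * k) := by rw [hgk, Matrix.mul_one]
    _ = k * (M' * g) * k := by simp only [Matrix.mul_assoc]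
    _ = k * (g * M) * k := by rw [hgM]
    _ = (k * g) * M * k := by simp only [Matrix.mul_assoc]
    _ = M * k := by rw [hkg, Matrix.one_mul]

theorem STRANS_trans (hF : Fintype.card F = 4) (M M' M'' : Matrix (Fin 3) (Fin 3) F)
    (h : ∃ g ∈ bU F 2, g * M = M' * g) (h' : ∃ g ∈ bU F 2, g * M' = M'' * g) :
    ∃ g ∈ bU F 2, g * M = M'' * g := by
  obtain ⟨g, hg, hgM⟩ := h
  obtain ⟨g', hg', hgM'⟩ := h'
  refine ⟨g' * g, STRANS_mul hF g' g hg' hg, ?_⟩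
  rw [Matrix.mul_assoc, hgM, ← Matrix.mul_assoc, hgM', Matrix.mul_assoc]

omit [Fintype F] in
theorem STRANS_one_mem : (1 : Matrix (Fin 3) (Fin 3) F) ∈ bU F 2 := by
  show (1 : Matrix (Fin 3) (Fin 3) F)ᵀ * (1 : Matrix (Fin 3) (Fin 3) F).map (fun x : F => x ^ 2) = 1
  rw [Matrix.map_one _ (by norm_num) (by norm_num), Matrix.transpose_one, Matrix.mul_one]

omit [Fintype F] in
theorem STRANS_Y_mem : bY F ∈ bU F 2 := by
  show (bY F)ᵀ * (bY F).map (fun x : F => x ^ 2) = 1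
  ext i j
  fin_cases i <;> fin_cases j <;> simp [bY, Matrix.mul_apply, Fin.sum_univ_three]

omit [Fintype F] in
theorem STRANS_tau_mem : (!![1, 0, 0; 0, 0, 1; 0, 1, 0] : Matrix (Fin 3) (Fin 3) F) ∈ bU F 2 := by
  show (!![1, 0, 0; 0, 0, 1; 0, 1, 0] : Matrix (Fin 3) (Fin 3) F)ᵀ *
    (!![1, 0, 0; 0, 0, 1; 0, 1, 0] : Matrix (Fin 3) (Fin 3) F).map (fun x : F => x ^ 2) = 1
  ext i j
  fin_cases i <;> fin_cases j <;> simp [Matrix.mul_apply, Fin.sum_univ_three]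

omit [Fintype F] in
theorem STRANS_diag_mem (a b e : F) (ha : a ^ 3 = 1) (hb : b ^ 3 = 1) (he : e ^ 3 = 1) :
    Matrix.diagonal ![a, b, e] ∈ bU F 2 := by
  show (Matrix.diagonal ![a, b, e])ᵀ * (Matrix.diagonal ![a, b, e]).map (fun x : F => x ^ 2) = 1
  ext i j
  fin_cases i <;> fin_cases j <;> simp [Matrix.mul_apply, Matrix.diagonal_apply]
  · linear_combination ha
  · linear_combination hb
  · linear_combination he

omit [Fintype F] in
theorem STRANS_Phi_mem (ω : F) (hs : ω ^ 2 + ω + 1 = 0) (h2 : (2 : F) = 0) :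
    (!![1, 1, 1; 1, ω, ω ^ 2; 1, ω ^ 2, ω] : Matrix (Fin 3) (Fin 3) F) ∈ bU F 2 := by
  show (!![1, 1, 1; 1, ω, ω ^ 2; 1, ω ^ 2, ω] : Matrix (Fin 3) (Fin 3) F)ᵀ *
    (!![1, 1, 1; 1, ω, ω ^ 2; 1, ω ^ 2, ω] : Matrix (Fin 3) (Fin 3) F).map (fun x : F => x ^ 2) = 1
  ext i j
  fin_cases i <;> fin_cases j <;> simp [Matrix.mul_apply, Fin.sum_univ_three]
  · linear_combination h2
  · linear_combination (ω ^ 2 - ω + 1) * hs
  · linear_combination (ω ^ 2 - ω + 1) * hs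
  · linear_combination hs
  · linear_combination (ω - 1) * (ω ^ 3 + 2) * hs + h2
  · linear_combination (ω ^ 3 - ω + 1) * hs
  · linear_combination hs
  · linear_combination (ω ^ 3 - ω + 1) * hs
  · linear_combination (ω - 1) * (ω ^ 3 + 2) * hs + h2

omit [Fintype F] in
theorem STRANS_Y3 : bY F * bY F * bY F = 1 := by
  ext i j
  fin_cases i <;> fin_cases j <;> simp [bY, Matrix.mul_apply, Fin.sum_univ_three]

omit [Fintype F] in
theorem STRANS_Ypow (k : ℕ) :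
    bY F ^ k = 1 ∨ bY F ^ k = bY F ∨ bY F ^ k = bY F * bY F := by
  induction k with
  | zero => left; exact pow_zero _
  | succ k ih =>
    rw [pow_succ]
    rcases ih with h | h | h
    · right; left; rw [h, one_mul]
    · right; right; rw [h]
    · left; rw [h, STRANS_Y3]

omit [Fintype F] in
theorem STRANS_mvY (x0 x1 x2 : F) :
    bY F * Matrix.diagonal ![x0, x1, x2] = Matrix.diagonal ![x2, x0, x1] * bY F := by
  ext i j
  fin_cases i <;> fin_cases j <;> simp [bY, Matrix.mul_apply, Matrix.diagonal_apply]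

omit [Fintype F] in
theorem STRANS_mvT (x0 x1 x2 : F) :
    (!![1, 0, 0; 0, 0, 1; 0, 1, 0] : Matrix (Fin 3) (Fin 3) F) * Matrix.diagonal ![x0, x1, x2] =
      Matrix.diagonal ![x0, x2, x1] * !![1, 0, 0; 0, 0, 1; 0, 1, 0] := by
  ext i j
  fin_cases i <;> fin_cases j <;> simp [Matrix.mul_apply, Matrix.diagonal_apply]

omit [Fintype F] in
theorem STRANS_smul_diag (c d : F) :
    c • Matrix.diagonal ![1, d, d ^ 2] = Matrix.diagonal ![c, c * d, c * d ^ 2] := by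
  ext i j
  fin_cases i <;> fin_cases j <;> simp

omit [Fintype F] in
theorem STRANS_k1a (c d : F) (hc : c ^ 3 = 1) (hd : d ^ 3 = 1) :
    Matrix.diagonal ![1, c ^ 2 * d ^ 2, c] * (c • (Matrix.diagonal ![1, d, d ^ 2] * bY F)) =
      bY F * Matrix.diagonal ![1, c ^ 2 * d ^ 2, c] := by
  ext i j
  fin_cases i <;> fin_cases j <;> simp [bY, Matrix.mul_apply, Matrix.diagonal_apply]
  · linear_combination d ^ 3 * hc + hd
  · ring

omit [Fintype F] in
theorem STRANS_k1b (ω : F) (h3 : ω ^ 3 = 1) :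
    (!![1, 1, 1; 1, ω, ω ^ 2; 1, ω ^ 2, ω] : Matrix (Fin 3) (Fin 3) F) * bY F =
      Matrix.diagonal ![1, ω, ω ^ 2] * !![1, 1, 1; 1, ω, ω ^ 2; 1, ω ^ 2, ω] := by
  ext i j
  fin_cases i <;> fin_cases j <;> simp [bY, Matrix.mul_apply, Fin.sum_univ_three, Matrix.diagonal_apply]
  · ring
  · linear_combination -h3
  · linear_combination -ω * h3
  · linear_combination -h3

omit [Fintype F] in
theorem STRANS_k2a (c d : F) (hc : c ^ 3 = 1) (hd : d ^ 3 = 1) :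
    Matrix.diagonal ![1, c, c ^ 2 * d] *
        (c • (Matrix.diagonal ![1, d, d ^ 2] * (bY F * bY F))) =
      (bY F * bY F) * Matrix.diagonal ![1, c, c ^ 2 * d] := by
  ext i j
  fin_cases i <;> fin_cases j <;> simp [bY, Matrix.mul_apply, Matrix.diagonal_apply]
  · ring
  · linear_combination d ^ 3 * hc + hd

omit [Fintype F] in
theorem STRANS_k2b (ω : F) (h3 : ω ^ 3 = 1) :
    (!![1, 1, 1; 1, ω, ω ^ 2; 1, ω ^ 2, ω] : Matrix (Fin 3) (Fin 3) F) * (bY F * bY F) =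
      Matrix.diagonal ![1, ω ^ 2, ω] * !![1, 1, 1; 1, ω, ω ^ 2; 1, ω ^ 2, ω] := by
  ext i j
  fin_cases i <;> fin_cases j <;> simp [bY, Matrix.mul_apply, Fin.sum_univ_three, Matrix.diagonal_apply]
  · linear_combination -h3
  · linear_combination -ω * h3
  · linear_combination -h3
  · ring

omit [Fintype F] in
theorem STRANS_D1 : Matrix.diagonal ![(1 : F), 1, 1 ^ 2] = 1 := by
  ext i j
  fin_cases i <;> fin_cases j <;> simp

theorem STRANS_p1 (ω : F) : ∃ g ∈ bU F 2,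
    g * Matrix.diagonal ![ω, ω ^ 2, 1] = Matrix.diagonal ![1, ω, ω ^ 2] * g :=
  ⟨bY F, STRANS_Y_mem, STRANS_mvY ω (ω ^ 2) 1⟩

theorem STRANS_p2 (hF : Fintype.card F = 4) (ω : F) : ∃ g ∈ bU F 2,
    g * Matrix.diagonal ![ω ^ 2, 1, ω] = Matrix.diagonal ![1, ω, ω ^ 2] * g :=
  STRANS_trans hF _ _ _ ⟨bY F, STRANS_Y_mem, STRANS_mvY (ω ^ 2) 1 ω⟩ (STRANS_p1 ω)

theorem STRANS_p3 (ω : F) : ∃ g ∈ bU F 2,
    g * Matrix.diagonal ![1, ω ^ 2, ω] = Matrix.diagonal ![1, ω, ω ^ 2] * g :=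
  ⟨!![1, 0, 0; 0, 0, 1; 0, 1, 0], STRANS_tau_mem, STRANS_mvT 1 (ω ^ 2) ω⟩

theorem STRANS_p4 (hF : Fintype.card F = 4) (ω : F) : ∃ g ∈ bU F 2,
    g * Matrix.diagonal ![ω ^ 2, ω, 1] = Matrix.diagonal ![1, ω, ω ^ 2] * g :=
  STRANS_trans hF _ _ _ ⟨bY F, STRANS_Y_mem, STRANS_mvY (ω ^ 2) ω 1⟩ (STRANS_p3 ω)

theorem STRANS_p5 (hF : Fintype.card F = 4) (ω : F) : ∃ g ∈ bU F 2,
    g * Matrix.diagonal ![ω, 1, ω ^ 2] = Matrix.diagonal ![1, ω, ω ^ 2] * g :=
  STRANS_trans hF _ _ _ ⟨bY F, STRANS_Y_mem, STRANS_mvY ω 1 (ω ^ 2)⟩ (STRANS_p4 hF ω)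

theorem STRANS_key (hF : Fintype.card F = 4) (ω : F) (hω0 : ω ≠ 0) (hω1 : ω ≠ 1) :
    ∀ M ∈ bS F, ¬ bScal M →
      ∃ g ∈ bU F 2, g * M = Matrix.diagonal ![1, ω, ω ^ 2] * g := by
  have h2 := STRANS_two hF
  have h3 : ω ^ 3 = 1 := STRANS_cube hF ω hω0
  have hs : ω ^ 2 + ω + 1 = 0 := by
    have h : (ω - 1) * (ω ^ 2 + ω + 1) = 0 := by linear_combination h3
    rcases mul_eq_zero.mp h with h1 | h1
    · exact absurd (sub_eq_zero.mp h1) hω1
    · exact h1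
  have e1 : ω * ω = ω ^ 2 := by ring
  have e2 : ω * ω ^ 2 = 1 := by linear_combination h3
  have e3 : ω ^ 2 * ω = 1 := by linear_combination h3
  have e4 : ω ^ 2 * ω ^ 2 = ω := by linear_combination ω * h3
  have e5 : (ω ^ 2) ^ 2 = ω := by linear_combination ω * h3
  have e6 : ω * (ω ^ 2) ^ 2 = ω ^ 2 := by linear_combination ω ^ 2 * h3
  have e7 : ω ^ 2 * (ω ^ 2) ^ 2 = 1 := by linear_combination (ω ^ 3 + 1) * h3
  rintro M ⟨c, d, k, hc0, hd0, rfl⟩ hns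
  have hc : c ^ 3 = 1 := STRANS_cube hF c hc0
  have hd : d ^ 3 = 1 := STRANS_cube hF d hd0
  rcases STRANS_Ypow (F := F) k with hk | hk | hk
  · rw [hk, Matrix.mul_one] at hns ⊢
    rcases STRANS_cases ω hs h3 d hd with hd1 | hd1 | hd1
    · exact absurd ⟨c, by rw [hd1, STRANS_D1]⟩ hns
    · rcases STRANS_cases ω hs h3 c hc with hc1 | hc1 | hc1
      · rw [hc1, hd1, one_smul]
        exact ⟨1, STRANS_one_mem, by rw [Matrix.one_mul, Matrix.mul_one]⟩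
      · rw [hc1, hd1, STRANS_smul_diag, e1, e2]
        exact STRANS_p1 ω
      · rw [hc1, hd1, STRANS_smul_diag, e3, e4]
        exact STRANS_p2 hF ω
    · rcases STRANS_cases ω hs h3 c hc with hc1 | hc1 | hc1
      · rw [hc1, hd1, one_smul, e5]
        exact STRANS_p3 ω
      · rw [hc1, hd1, STRANS_smul_diag, e2, e6]
        exact STRANS_p5 hF ω
      · rw [hc1, hd1, STRANS_smul_diag, e4, e7]
        exact STRANS_p4 hF ω
  · rw [hk]
    have hcd : (c ^ 2 * d ^ 2) ^ 3 = 1 := by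
      have h : (c ^ 2 * d ^ 2) ^ 3 = (c ^ 3) ^ 2 * (d ^ 3) ^ 2 := by ring
      rw [h, hc, hd]; norm_num
    refine ⟨!![1, 1, 1; 1, ω, ω ^ 2; 1, ω ^ 2, ω] * Matrix.diagonal ![1, c ^ 2 * d ^ 2, c],
      STRANS_mul hF _ _ (STRANS_Phi_mem ω hs h2)
        (STRANS_diag_mem 1 (c ^ 2 * d ^ 2) c (one_pow 3) hcd hc), ?_⟩
    rw [Matrix.mul_assoc, STRANS_k1a c d hc hd, ← Matrix.mul_assoc, STRANS_k1b ω h3,
      Matrix.mul_assoc]
  · rw [hk]
    have hcd : (c ^ 2 * d) ^ 3 = 1 := by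
      have h : (c ^ 2 * d) ^ 3 = (c ^ 3) ^ 2 * d ^ 3 := by ring
      rw [h, hc, hd]; norm_num
    refine ⟨!![1, 0, 0; 0, 0, 1; 0, 1, 0] *
        (!![1, 1, 1; 1, ω, ω ^ 2; 1, ω ^ 2, ω] * Matrix.diagonal ![1, c, c ^ 2 * d]),
      STRANS_mul hF _ _ STRANS_tau_mem (STRANS_mul hF _ _ (STRANS_Phi_mem ω hs h2)
        (STRANS_diag_mem 1 c (c ^ 2 * d) (one_pow 3) hc hcd)), ?_⟩
    calc (!![1, 0, 0; 0, 0, 1; 0, 1, 0] : Matrix (Fin 3) (Fin 3) F) *
          (!![1, 1, 1; 1, ω, ω ^ 2; 1, ω ^ 2, ω] * Matrix.diagonal ![1, c, c ^ 2 * d]) *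
          (c • (Matrix.diagonal ![1, d, d ^ 2] * (bY F * bY F)))
        = !![1, 0, 0; 0, 0, 1; 0, 1, 0] * (!![1, 1, 1; 1, ω, ω ^ 2; 1, ω ^ 2, ω] *
            (Matrix.diagonal ![1, c, c ^ 2 * d] *
              (c • (Matrix.diagonal ![1, d, d ^ 2] * (bY F * bY F))))) := by
          simp only [Matrix.mul_assoc]
      _ = !![1, 0, 0; 0, 0, 1; 0, 1, 0] * (!![1, 1, 1; 1, ω, ω ^ 2; 1, ω ^ 2, ω] *
            ((bY F * bY F) * Matrix.diagonal ![1, c, c ^ 2 * d])) := by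
          rw [STRANS_k2a c d hc hd]
      _ = !![1, 0, 0; 0, 0, 1; 0, 1, 0] * ((!![1, 1, 1; 1, ω, ω ^ 2; 1, ω ^ 2, ω] *
            (bY F * bY F)) * Matrix.diagonal ![1, c, c ^ 2 * d]) := by
          simp only [Matrix.mul_assoc]
      _ = !![1, 0, 0; 0, 0, 1; 0, 1, 0] * ((Matrix.diagonal ![1, ω ^ 2, ω] *
            !![1, 1, 1; 1, ω, ω ^ 2; 1, ω ^ 2, ω]) * Matrix.diagonal ![1, c, c ^ 2 * d]) := by
          rw [STRANS_k2b ω h3]
      _ = (!![1, 0, 0; 0, 0, 1; 0, 1, 0] * Matrix.diagonal ![1, ω ^ 2, ω]) *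
            (!![1, 1, 1; 1, ω, ω ^ 2; 1, ω ^ 2, ω] * Matrix.diagonal ![1, c, c ^ 2 * d]) := by
          simp only [Matrix.mul_assoc]
      _ = (Matrix.diagonal ![1, ω, ω ^ 2] * !![1, 0, 0; 0, 0, 1; 0, 1, 0]) *
            (!![1, 1, 1; 1, ω, ω ^ 2; 1, ω ^ 2, ω] * Matrix.diagonal ![1, c, c ^ 2 * d]) := by
          rw [STRANS_mvT]
      _ = Matrix.diagonal ![1, ω, ω ^ 2] * (!![1, 0, 0; 0, 0, 1; 0, 1, 0] *
            (!![1, 1, 1; 1, ω, ω ^ 2; 1, ω ^ 2, ω] * Matrix.diagonal ![1, c, c ^ 2 * d])) := by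
          simp only [Matrix.mul_assoc]

/-- STRANS: the unitary matrices are transitive on the non-scalar elements of `bS`. -/
theorem STRANS (hF : Fintype.card F = 4) : STRANSp F := by
  obtain ⟨ω, hω0, hω1⟩ := STRANS_omega hF
  have key := STRANS_key hF ω hω0 hω1
  intro M hM M' hM' hns hns'
  exact STRANS_trans hF M _ M' (key M hM hns) (STRANS_symm hF M' _ (key M' hM' hns'))

end Cfsg.Agent.Lib.Helper44.BAD
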