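import Mathlib
import Cfsg.Agent.Lib.Helper10.BWDefs
import Cfsg.Agent.Lib.Helper83.Ortho
import Cfsg.Agent.Lib.Helper83.IrrBasic

/-!
# S0997 case B2 (project BW), piece FD0 (helper29): Fourier inversion on a finite group
`f k = Σ_χ χ(1)/|G| Σ_h χ(h⁻¹ k) f h` (column orthogonality).
-/

set_option autoImplicit false

namespace Cfsg.Agent.Lib.Helper10.BW

open Cfsg
open Cfsg.Agent.Lib.Helper83 (trivIrr)
open Cfsg.Agent.Lib.Helper10.BR (psum DOut)
open scoped ComplexConjugate

universe u

variable {G : Type u} [Group G] [Fintype G]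

/-- BW-FD0 -/
theorem fourier [Fintype (IrrCharacter G)] (f : G → ℂ) (k : G) :
    f k = ∑ χ : IrrCharacter G, (χ : G → ℂ) 1 / (Nat.card G : ℂ) *
      ∑ h : G, (χ : G → ℂ) (h⁻¹ * k) * f h := by
  classical
  have hG0 : (Nat.card G : ℂ) ≠ 0 := by
    have hpos : 0 < Nat.card G := Nat.card_pos
    exact_mod_cast hpos.ne'
  have hcol : ∀ h : G, ∑ χ : IrrCharacter G, (χ : G → ℂ) (h⁻¹ * k) * (χ : G → ℂ) 1 =
      if h = k then (Nat.card G : ℂ) else 0 := by
    intro h
    have h1 := Cfsg.Agent.Lib.Helper83.column_orthogonality (G := G) (h⁻¹ * k) 1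
    have h2 : ∀ χ : IrrCharacter G, conj ((χ : G → ℂ) 1) = (χ : G → ℂ) 1 := by
      intro χ
      rw [(Cfsg.Agent.Lib.Helper83.irr_degree χ.2).2, Complex.conj_natCast]
    simp only [h2] at h1
    rw [h1]
    by_cases hk : h = k
    · subst hk
      rw [if_pos rfl, if_pos (by rw [inv_mul_cancel])]
      have htop : Subgroup.centralizer ({1} : Set G) = ⊤ := by
        ext x
        simp [Subgroup.mem_centralizer_iff]
      rw [htop, Subgroup.card_top]
    · rw [if_neg hk, if_neg]
      intro hc
      apply hk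
      have h3 := isConj_one_right.mp hc
      have h4 : h * (h⁻¹ * k) = h * 1 := by rw [h3]
      rw [mul_inv_cancel_left, mul_one] at h4
      exact h4.symm
  symm
  calc ∑ χ : IrrCharacter G, (χ : G → ℂ) 1 / (Nat.card G : ℂ) *
        ∑ h : G, (χ : G → ℂ) (h⁻¹ * k) * f h
      = ∑ χ : IrrCharacter G, ∑ h : G,
          f h / (Nat.card G : ℂ) * ((χ : G → ℂ) (h⁻¹ * k) * (χ : G → ℂ) 1) := by
        apply Finset.sum_congr rfl
        intro χ _
        rw [Finset.mul_sum]
        apply Finset.sum_congr rfl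
        intro h _
        ring
    _ = ∑ h : G, f h / (Nat.card G : ℂ) *
          ∑ χ : IrrCharacter G, (χ : G → ℂ) (h⁻¹ * k) * (χ : G → ℂ) 1 := by
        rw [Finset.sum_comm]
        apply Finset.sum_congr rfl
        intro h _
        rw [Finset.mul_sum]
    _ = ∑ h : G, f h / (Nat.card G : ℂ) * (if h = k then (Nat.card G : ℂ) else 0) := by
        apply Finset.sum_congr rfl
        intro h _
        rw [hcol h]
    _ = f k := by
        rw [Finset.sum_eq_single k]
        · rw [if_pos rfl]
          field_simp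
        · intro h _ hne
          rw [if_neg hne, mul_zero]
        · intro hk
          exact absurd (Finset.mem_univ k) hk

end Cfsg.Agent.Lib.Helper10.BW
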