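import Mathlib
import Cfsg.Agent.Lib.Helper10.BWDefs
import Cfsg.Agent.Lib.Helper83.IrrBasic
import Cfsg.Agent.Lib.Helper5.BRL1

/-!
# S0997 case B2 (project BW), piece FD1 (helper29): an irreducible character without `H`-fixed
vectors kills right-`H`-invariant functions.
-/

set_option autoImplicit false

namespace Cfsg.Agent.Lib.Helper10.BW

open Cfsg
open Cfsg.Agent.Lib.Helper83 (trivIrr)
open Cfsg.Agent.Lib.Helper10.BR (psum DOut)
open scoped ComplexConjugate

universe u

variable {G : Type u} [Group G] [Fintype G]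

/-- BW-FD1 -/
theorem fourier_zero (H : Subgroup G) (χ : IrrCharacter G) (h0 : psum H (χ : G → ℂ) 1 = 0)
    (f : G → ℂ) (hf : ∀ h : G, ∀ n ∈ H, f (h * n) = f h) (k : G) :
    ∑ h : G, (χ : G → ℂ) (h⁻¹ * k) * f h = 0 := by
  classical
  letI : Fintype H := Fintype.ofFinite H
  have hχ : IsCharacter G (χ : G → ℂ) := by
    obtain ⟨n, ρ, -, h⟩ := χ.2
    exact ⟨n, ρ, h⟩
  have hcf : ∀ g x : G, (χ : G → ℂ) (x * g * x⁻¹) = (χ : G → ℂ) g :=
    fun g x => Cfsg.Agent.Lib.Helper83.irr_classFunction χ.2 g x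
  have hz : ∀ y : G, psum H (χ : G → ℂ) y = 0 :=
    fun y => Cfsg.Agent.Lib.Helper10.BR.psum_zero H _ hχ h0 y
  have hshift : ∀ n : H, ∑ h : G, (χ : G → ℂ) (h⁻¹ * k) * f h =
      ∑ h : G, (χ : G → ℂ) (h⁻¹ * k * (n : G)⁻¹) * f h := by
    intro n
    refine (Equiv.sum_comp (Equiv.mulRight (n : G))
      (fun h => (χ : G → ℂ) (h⁻¹ * k) * f h)).symm.trans ?_
    apply Finset.sum_congr rfl
    intro h _
    simp only [Equiv.coe_mulRight]
    rw [hf h n n.2]
    congr 1
    rw [← hcf (h⁻¹ * k * (n : G)⁻¹) (n : G)⁻¹]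
    congr 1
    group
  have hsum : (Nat.card H : ℂ) * ∑ h : G, (χ : G → ℂ) (h⁻¹ * k) * f h = 0 := by
    calc (Nat.card H : ℂ) * ∑ h : G, (χ : G → ℂ) (h⁻¹ * k) * f h
        = ∑ _n : H, ∑ h : G, (χ : G → ℂ) (h⁻¹ * k) * f h := by
          rw [Finset.sum_const, Finset.card_univ, nsmul_eq_mul, Nat.card_eq_fintype_card]
      _ = ∑ n : H, ∑ h : G, (χ : G → ℂ) (h⁻¹ * k * (n : G)⁻¹) * f h := by
          apply Finset.sum_congr rfl
          intro n _
          exact hshift n
      _ = ∑ h : G, (∑ n : H, (χ : G → ℂ) (h⁻¹ * k * (n : G)⁻¹)) * f h := by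
          rw [Finset.sum_comm]
          apply Finset.sum_congr rfl
          intro h _
          rw [Finset.sum_mul]
      _ = 0 := by
          apply Finset.sum_eq_zero
          intro h _
          have h1 : ∑ n : H, (χ : G → ℂ) (h⁻¹ * k * (n : G)⁻¹) =
              psum H (χ : G → ℂ) (h⁻¹ * k) := by
            rw [Cfsg.Agent.Lib.Helper10.BR.psum_eq_sum]
            refine (Equiv.sum_comp (Equiv.inv H)
              (fun n : H => (χ : G → ℂ) (h⁻¹ * k * (n : G)⁻¹))).symm.trans ?_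
            apply Finset.sum_congr rfl
            intro n _
            simp
          rw [h1, hz, zero_mul]
  have hH0 : (Nat.card H : ℂ) ≠ 0 := by
    have hpos : 0 < Nat.card H := Nat.card_pos
    exact_mod_cast hpos.ne'
  exact (mul_eq_zero.mp hsum).resolve_left hH0

end Cfsg.Agent.Lib.Helper10.BW
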