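import Mathlib
import Cfsg.Agent.Lib.Helper10.BWDefs
import Cfsg.Agent.Lib.Helper83.IrrBasic

/-!
# S0997 case B2 (project BW), piece FLAT (helper29): the formula
`om P θ (k⁻¹ x k) = θ(x)/(e+1) + (1 - θ(x)/(e+1)) om P χ₁ k` (abstract assembly from the Fourier
pieces).
-/

set_option autoImplicit false

namespace Cfsg.Agent.Lib.Helper10.BW

open Cfsg
open Cfsg.Agent.Lib.Helper83 (trivIrr)
open Cfsg.Agent.Lib.Helper10.BR (psum DOut)
open scoped ComplexConjugate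

universe u

variable {G : Type u} [Group G] [Fintype G]

variable {p e : ℕ} {P : Subgroup G} {θ θ' : IrrCharacter G}
  {Xp Xm D : Finset (IrrCharacter G)}

/-- BW-FLAT -/
theorem formula [Fintype (IrrCharacter G)] (h : VTab G p e P θ θ' Xp Xm D)
    (h1 : psum P (θ : G → ℂ) 1 = (p : ℂ))
    (χ₁ : IrrCharacter G) (hχ₁ : χ₁ ≠ trivIrr G) (hP1 : psum P (χ₁ : G → ℂ) 1 = (p : ℂ))
    (huniq : ∀ χ : IrrCharacter G, χ ≠ trivIrr G → χ ≠ χ₁ →
      classInner (pc (θ : G → ℂ) (θ : G → ℂ)) (χ : G → ℂ) ≠ 0 →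
      psum (Subgroup.normalizer (P : Set G)) (χ : G → ℂ) 1 = 0)
    (homn : ∀ n ∈ Subgroup.normalizer (P : Set G), ∀ g : G,
      om P (θ : G → ℂ) (n * g) = om P (θ : G → ℂ) n * om P (θ : G → ℂ) g ∧
      om P (θ : G → ℂ) (g * n) = om P (θ : G → ℂ) g * om P (θ : G → ℂ) n)
    (hz0 : ∀ χ : IrrCharacter G, classInner (pc (θ : G → ℂ) (θ : G → ℂ)) (χ : G → ℂ) = 0 →
      ∀ a b : G, ∑ h : G, (χ : G → ℂ) h⁻¹ * (θ : G → ℂ) (h * a * h⁻¹ * b) = 0)
    (hfd0 : ∀ (f : G → ℂ) (k : G), f k = ∑ χ : IrrCharacter G,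
      (χ : G → ℂ) 1 / (Nat.card G : ℂ) * ∑ h : G, (χ : G → ℂ) (h⁻¹ * k) * f h)
    (hfd1 : ∀ χ : IrrCharacter G, psum (Subgroup.normalizer (P : Set G)) (χ : G → ℂ) 1 = 0 →
      ∀ f : G → ℂ, (∀ h : G, ∀ n ∈ Subgroup.normalizer (P : Set G), f (h * n) = f h) →
      ∀ k : G, ∑ h : G, (χ : G → ℂ) (h⁻¹ * k) * f h = 0)
    (hfd3 : ∀ x : G, ∑ h : G, om P (θ : G → ℂ) (h⁻¹ * x * h) =
      (Nat.card G : ℂ) * (θ : G → ℂ) x / (θ : G → ℂ) 1)
    (hfd4 : ∀ f : G → ℂ, (∀ u ∈ P, ∀ h : G, f (u * h) = f h) →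
      (∀ h : G, ∀ u ∈ P, f (h * u) = f h) →
      ∃ C : ℂ, ∀ k : G, ∑ h : G, (χ₁ : G → ℂ) (h⁻¹ * k) * f h = C * om P (χ₁ : G → ℂ) k)
    (k x : G) (hx : x ∈ P) :
    om P (θ : G → ℂ) (k⁻¹ * x * k) = (θ : G → ℂ) x / ((e : ℂ) + 1) +
      (1 - (θ : G → ℂ) x / ((e : ℂ) + 1)) * om P (χ₁ : G → ℂ) k := by
  classical
  letI : Fintype P := Fintype.ofFinite P
  have hp := h.hp
  have hp0 : (p : ℂ) ≠ 0 := by exact_mod_cast hp.ne_zero
  have hPc : (Nat.card P : ℂ) = (p : ℂ) := by rw [h.cardP]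
  have hG0 : (Nat.card G : ℂ) ≠ 0 := by
    have hpos : 0 < Nat.card G := Nat.card_pos
    exact_mod_cast hpos.ne'
  have hθcf : ∀ g y : G, (θ : G → ℂ) (y * g * y⁻¹) = (θ : G → ℂ) g :=
    fun g y => Cfsg.Agent.Lib.Helper83.irr_classFunction θ.2 g y
  have hθcomm : ∀ a b : G, (θ : G → ℂ) (a * b) = (θ : G → ℂ) (b * a) := by
    intro a b
    rw [← hθcf (b * a) a]
    congr 1
    group
  have hom1 : om P (θ : G → ℂ) 1 = 1 := by
    unfold om
    rw [h1, hPc]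
    exact div_self hp0
  have hom1' : om P (χ₁ : G → ℂ) 1 = 1 := by
    unfold om
    rw [hP1, hPc]
    exact div_self hp0
  have hPN : P ≤ Subgroup.normalizer (P : Set G) := Subgroup.le_normalizer
  have hPab : ∀ u ∈ P, ∀ v ∈ P, u * v = v * u := by
    intro u hu v hv
    have hu' : u ∈ Subgroup.centralizer (P : Set G) := by rw [h.cent]; exact hu
    exact (Subgroup.mem_centralizer_iff.mp hu' v hv).symm
  obtain ⟨f, hf⟩ : ∃ f : G → ℂ, ∀ k : G, f k = om P (θ : G → ℂ) (k⁻¹ * x * k) :=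
    ⟨_, fun _ => rfl⟩
  -- invariance of `f`
  have hfl : ∀ u ∈ P, ∀ g : G, f (u * g) = f g := by
    intro u hu g
    rw [hf, hf]
    have hc := hPab u hu x hx
    have e1 : (u * g)⁻¹ * x * (u * g) = g⁻¹ * x * g := by
      calc (u * g)⁻¹ * x * (u * g) = g⁻¹ * (u⁻¹ * (x * u)) * g := by group
        _ = g⁻¹ * (u⁻¹ * (u * x)) * g := by rw [hc]
        _ = g⁻¹ * x * g := by group
    rw [e1]
  have hfr : ∀ g : G, ∀ n ∈ Subgroup.normalizer (P : Set G), f (g * n) = f g := by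
    intro g n hn
    rw [hf, hf]
    have hn' : n⁻¹ ∈ Subgroup.normalizer (P : Set G) := inv_mem hn
    have e1 : (g * n)⁻¹ * x * (g * n) = n⁻¹ * ((g⁻¹ * x * g) * n) := by group
    have e2 := (homn n⁻¹ hn' n).1
    rw [inv_mul_cancel, hom1] at e2
    rw [e1, (homn n⁻¹ hn' _).1, (homn n hn _).2]
    calc om P (θ : G → ℂ) n⁻¹ * (om P (θ : G → ℂ) (g⁻¹ * x * g) * om P (θ : G → ℂ) n)
        = (om P (θ : G → ℂ) n⁻¹ * om P (θ : G → ℂ) n) * om P (θ : G → ℂ) (g⁻¹ * x * g) := by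
          ring
      _ = om P (θ : G → ℂ) (g⁻¹ * x * g) := by rw [← e2, one_mul]
  -- the three kinds of Fourier coefficients
  have hTtriv : ∀ k : G, ∑ g : G, (trivIrr G : G → ℂ) (g⁻¹ * k) * f g =
      (Nat.card G : ℂ) * (θ : G → ℂ) x / (θ : G → ℂ) 1 := by
    intro k
    rw [← hfd3 x]
    apply Finset.sum_congr rfl
    intro g _
    rw [Cfsg.Agent.Lib.Helper83.trivIrr_apply, one_mul, hf]
  obtain ⟨C, hC⟩ := hfd4 f hfl (fun g u hu => hfr g u (hPN hu))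
  have hTother : ∀ χ : IrrCharacter G, χ ≠ trivIrr G → χ ≠ χ₁ → ∀ k : G,
      ∑ g : G, (χ : G → ℂ) (g⁻¹ * k) * f g = 0 := by
    intro χ hne hne1 k
    by_cases h0 : classInner (pc (θ : G → ℂ) (θ : G → ℂ)) (χ : G → ℂ) = 0
    · have hfg : ∀ g : G, f g = (∑ u : P, (θ : G → ℂ) (g⁻¹ * x * g * (u : G))) / (p : ℂ) := by
        intro g
        rw [hf]
        unfold om
        rw [Cfsg.Agent.Lib.Helper10.BR.psum_eq_sum, hPc]
      have hu0 : ∀ u : P, ∑ g : G, (χ : G → ℂ) (g⁻¹ * k) *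
          (θ : G → ℂ) (g⁻¹ * x * g * (u : G)) = 0 := by
        intro u
        rw [← hz0 χ h0 (u : G) (k⁻¹ * x * k)]
        refine (Equiv.sum_comp (Equiv.mulLeft k) (fun g : G => (χ : G → ℂ) (g⁻¹ * k) *
          (θ : G → ℂ) (g⁻¹ * x * g * (u : G)))).symm.trans ?_
        apply Finset.sum_congr rfl
        intro g _
        simp only [Equiv.coe_mulLeft]
        have e1 : (k * g)⁻¹ * k = g⁻¹ := by group
        have e2 : (θ : G → ℂ) ((k * g)⁻¹ * x * (k * g) * (u : G)) =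
            (θ : G → ℂ) (g * (u : G) * g⁻¹ * (k⁻¹ * x * k)) := by
          rw [← hθcf ((k * g)⁻¹ * x * (k * g) * (u : G)) g,
            hθcomm (g * (u : G) * g⁻¹) (k⁻¹ * x * k)]
          congr 1
          group
        rw [e1, e2]
      calc ∑ g : G, (χ : G → ℂ) (g⁻¹ * k) * f g
          = ∑ g : G, ∑ u : P, (χ : G → ℂ) (g⁻¹ * k) *
              (θ : G → ℂ) (g⁻¹ * x * g * (u : G)) / (p : ℂ) := by
            apply Finset.sum_congr rfl
            intro g _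
            rw [hfg g, Finset.sum_div, Finset.mul_sum]
            apply Finset.sum_congr rfl
            intro u _
            ring
        _ = ∑ u : P, (∑ g : G, (χ : G → ℂ) (g⁻¹ * k) *
              (θ : G → ℂ) (g⁻¹ * x * g * (u : G))) / (p : ℂ) := by
            rw [Finset.sum_comm]
            apply Finset.sum_congr rfl
            intro u _
            rw [Finset.sum_div]
        _ = 0 := by
            apply Finset.sum_eq_zero
            intro u _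
            rw [hu0 u, zero_div]
    · exact hfd1 χ (huniq χ hne hne1 h0) f hfr k
  -- the formula with an unknown constant
  have hform : ∀ k : G, f k = (θ : G → ℂ) x / ((e : ℂ) + 1) +
      ((χ₁ : G → ℂ) 1 / (Nat.card G : ℂ) * C) * om P (χ₁ : G → ℂ) k := by
    intro k
    rw [hfd0 f k, Fintype.sum_eq_add (trivIrr G) χ₁ (Ne.symm hχ₁)]
    · rw [hTtriv k, hC k, Cfsg.Agent.Lib.Helper83.trivIrr_apply, h.degθ]
      field_simp
    · rintro χ ⟨hne, hne1⟩
      rw [hTother χ hne hne1 k, mul_zero]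
  -- the constant
  have hf1 : f 1 = 1 := by
    rw [hf]
    have e1 : (1 : G)⁻¹ * x * 1 = x := by group
    rw [e1]
    have e2 : psum P (θ : G → ℂ) x = psum P (θ : G → ℂ) 1 := by
      rw [Cfsg.Agent.Lib.Helper10.BR.psum_eq_sum, Cfsg.Agent.Lib.Helper10.BR.psum_eq_sum]
      refine ((Equiv.sum_comp (Equiv.mulLeft (⟨x, hx⟩ : P))
        (fun u : P => (θ : G → ℂ) (1 * (u : G)))).symm.trans ?_).symm
      apply Finset.sum_congr rfl
      intro u _
      simp only [Equiv.coe_mulLeft, Subgroup.coe_mul, one_mul]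
    unfold om
    rw [e2, h1, hPc]
    exact div_self hp0
  have hconst : (χ₁ : G → ℂ) 1 / (Nat.card G : ℂ) * C = 1 - (θ : G → ℂ) x / ((e : ℂ) + 1) := by
    have h2 := hform 1
    rw [hf1, hom1', mul_one] at h2
    linear_combination -h2
  rw [← hf, hform k, hconst]

end Cfsg.Agent.Lib.Helper10.BW
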