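import Mathlib
import Cfsg.Agent.Lib.Helper10.BWDefs

/-!
# S0997 case B2 (project BW), piece GOOD (helper29): the unique nontrivial constituent of
`θ · conj θ` with an `N`-fixed vector has one `P`-fixed vector (abstract assembly).
-/

set_option autoImplicit false

namespace Cfsg.Agent.Lib.Helper10.BW

open Cfsg
open Cfsg.Agent.Lib.Helper83 (trivIrr)
open Cfsg.Agent.Lib.Helper10.BR (psum DOut)
open scoped ComplexConjugate

universe u

variable {G : Type u} [Group G] [Fintype G]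

variable {p e : ℕ} {P : Subgroup G} {θ θ' : IrrCharacter G}
  {Xp Xm D : Finset (IrrCharacter G)}

/-- BW-GOOD -/
theorem good (h : VTab G p e P θ θ' Xp Xm D)
    (hreal : ∀ g : G, conj ((θ : G → ℂ) g) = (θ : G → ℂ) g)
    (hreal' : ∀ g : G, conj ((θ' : G → ℂ) g) = (θ' : G → ℂ) g)
    (hst : ∃ χ₂ ∈ D, classInner (pc (θ : G → ℂ) (θ' : G → ℂ)) (χ₂ : G → ℂ) = 1 ∧
      psum P (χ₂ : G → ℂ) 1 = (p : ℂ) ∧
      psum (Subgroup.normalizer (P : Set G)) (χ₂ : G → ℂ) 1 ≠ 0)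
    (hsN : psum (Subgroup.normalizer (P : Set G)) (pc (θ : G → ℂ) (θ : G → ℂ)) 1 =
      2 * ((e : ℂ) * p))
    (hsN' : psum (Subgroup.normalizer (P : Set G)) (pc (θ' : G → ℂ) (θ' : G → ℂ)) 1 =
      2 * ((e : ℂ) * p))
    (huniq : ∀ (θ₀ : IrrCharacter G),
      psum (Subgroup.normalizer (P : Set G)) (pc (θ₀ : G → ℂ) (θ₀ : G → ℂ)) 1 =
        2 * (Nat.card (Subgroup.normalizer (P : Set G)) : ℂ) →
      ∀ χ₂ : IrrCharacter G, χ₂ ≠ trivIrr G →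
      psum (Subgroup.normalizer (P : Set G)) (χ₂ : G → ℂ) 1 ≠ 0 →
      (classInner (pc (θ₀ : G → ℂ) (θ₀ : G → ℂ)) (χ₂ : G → ℂ) = 0 ∨
        classInner (pc (θ₀ : G → ℂ) (θ₀ : G → ℂ)) (χ₂ : G → ℂ) = 1) ∧
      (classInner (pc (θ₀ : G → ℂ) (θ₀ : G → ℂ)) (χ₂ : G → ℂ) = 1 →
        ∀ χ : IrrCharacter G, χ ≠ trivIrr G → χ ≠ χ₂ →
          classInner (pc (θ₀ : G → ℂ) (θ₀ : G → ℂ)) (χ : G → ℂ) ≠ 0 →
          psum (Subgroup.normalizer (P : Set G)) (χ : G → ℂ) 1 = 0))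
    (hdelta : ∀ χ₂ ∈ D,
      classInner (pc (θ : G → ℂ) (θ : G → ℂ)) (χ₂ : G → ℂ) +
          classInner (pc (θ' : G → ℂ) (θ' : G → ℂ)) (χ₂ : G → ℂ) =
        classInner (pc (θ : G → ℂ) (θ' : G → ℂ)) (χ₂ : G → ℂ) +
          classInner (pc (θ' : G → ℂ) (θ : G → ℂ)) (χ₂ : G → ℂ)) :
    ∃ χ₁ : IrrCharacter G, χ₁ ≠ trivIrr G ∧ psum P (χ₁ : G → ℂ) 1 = (p : ℂ) ∧
      ∀ χ : IrrCharacter G, χ ≠ trivIrr G → χ ≠ χ₁ →
        classInner (pc (θ : G → ℂ) (θ : G → ℂ)) (χ : G → ℂ) ≠ 0 →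
        psum (Subgroup.normalizer (P : Set G)) (χ : G → ℂ) 1 = 0 := by
  obtain ⟨χ₂, hD, hst1, hstP, hstN⟩ := hst
  have hp := h.hp
  -- a nontrivial element of `P`
  have hex : ∃ x ∈ P, x ≠ 1 := by
    by_contra hcon
    have hsub : ∀ x ∈ P, x = 1 := by
      intro x hx
      by_contra hne
      exact hcon ⟨x, hx, hne⟩
    have hbot : P = ⊥ := (Subgroup.eq_bot_iff_forall P).mpr hsub
    have hc := h.cardP
    rw [hbot, Subgroup.card_bot] at hc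
    exact hp.one_lt.ne' hc.symm
  obtain ⟨x, hx, hx1⟩ := hex
  have hne : χ₂ ≠ trivIrr G := by
    intro heq
    have h0 := h.valD χ₂ hD x hx hx1
    rw [heq, Cfsg.Agent.Lib.Helper83.trivIrr_apply] at h0
    exact one_ne_zero h0
  have hNc : (Nat.card (Subgroup.normalizer (P : Set G)) : ℂ) = (e : ℂ) * p := by
    rw [h.cardN]
    push_cast
    ring
  have hs : psum (Subgroup.normalizer (P : Set G)) (pc (θ : G → ℂ) (θ : G → ℂ)) 1 =
      2 * (Nat.card (Subgroup.normalizer (P : Set G)) : ℂ) := by rw [hsN, hNc]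
  have hs' : psum (Subgroup.normalizer (P : Set G)) (pc (θ' : G → ℂ) (θ' : G → ℂ)) 1 =
      2 * (Nat.card (Subgroup.normalizer (P : Set G)) : ℂ) := by rw [hsN', hNc]
  obtain ⟨hm, hmain⟩ := huniq θ hs χ₂ hne hstN
  obtain ⟨hm', -⟩ := huniq θ' hs' χ₂ hne hstN
  have hpc : pc (θ' : G → ℂ) (θ : G → ℂ) = pc (θ : G → ℂ) (θ' : G → ℂ) := by
    funext g
    unfold pc
    rw [hreal g, hreal' g, mul_comm]
  have hd := hdelta χ₂ hD
  rw [hpc, hst1] at hd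
  have hm1 : classInner (pc (θ : G → ℂ) (θ : G → ℂ)) (χ₂ : G → ℂ) = 1 := by
    rcases hm with h0 | h1
    · exfalso
      rw [h0] at hd
      rcases hm' with h0' | h1'
      · rw [h0'] at hd
        norm_num at hd
      · rw [h1'] at hd
        norm_num at hd
    · exact h1
  exact ⟨χ₂, hne, hstP, hmain hm1⟩

end Cfsg.Agent.Lib.Helper10.BW
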