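import Mathlib
import Cfsg.Agent.Lib.Helper57.DOCL1

/-!
# `fourier_core_ext2` (DG project of helper79, piece FCE2)

`Cfsg.Agent.Lib.Helper57.DO.fourier_core_ext` extended by the Gauss periods `η i t`:
`D t = ∑ i, Θ i * η i t`, `∑ i, η i t = -1`, and the `η i` are permuted transitively by the units.
The first part of the proof is a copy of helper57's proof of `fourier_core_ext`.
-/

set_option autoImplicit false
set_option maxHeartbeats 1600000

namespace Cfsg.Agent.Lib.Helper29.DG

open scoped ComplexConjugate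

/-- PIECE FCE2 -/
theorem fourier_core_ext2 {ι : Type*} [Fintype ι] (p : ℕ) [Fact p.Prime] (ζ : ℂ)
    (hζ : IsPrimitiveRoot ζ p) (S : Set ι) (v : ZMod p → ι → ℤ)
    (hsupp : ∀ a θ, θ ∉ S → v a θ = 0)
    (D : ZMod p → ι → ℂ) (hD : ∀ t θ, D t θ = ∑ a : ZMod p, (v a θ : ℂ) * ζ ^ (a * t).val)
    (H2 : ∀ t t' : ZMod p, t ≠ 0 → t' ≠ 0 →
      D t = D t' ∨ ∑ θ, D t θ * conj (D t' θ) = 0)
    (H3 : ∀ t : ZMod p, t ≠ 0 → ∑ θ, D t θ * conj (D t θ) = (p : ℂ))
    (H4 : ∀ θ ∈ S, D 1 θ ≠ 0) :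
    ∃ (m e : ℕ) (Θ : Fin m → ι → ℤ) (η : Fin m → ZMod p → ℂ),
      1 ≤ m ∧ 1 ≤ e ∧ p = 1 + e * m ∧
      (∀ i θ, θ ∉ S → Θ i θ = 0) ∧
      (∀ i j, ∑ θ, Θ i θ * Θ j θ = (if i = j then 1 else 0) + (e : ℤ)) ∧
      (∀ θ ∈ S, ∃ i, Θ i θ ≠ 0) ∧
      (∀ y : ι → ℂ, (∀ i, ∑ θ, y θ * (Θ i θ : ℂ) = 0) ↔
        (∀ t : ZMod p, t ≠ 0 → ∑ θ, y θ * D t θ = 0)) ∧
      (Nat.card {s : (ZMod p)ˣ // D (s : ZMod p) = D 1} = e) ∧
      (∀ θ, ∑ t ∈ Finset.univ.filter (fun t : ZMod p => t ≠ 0), D t θ =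
        -((e : ℂ) * ∑ i, (Θ i θ : ℂ))) ∧
      (∀ θ, (∀ i j, Θ i θ = Θ j θ) → ∀ (i : Fin m) (t : ZMod p), t ≠ 0 →
        D t θ = -(Θ i θ : ℂ)) ∧
      (∀ θ (t : ZMod p), t ≠ 0 → D t θ = ∑ i, (Θ i θ : ℂ) * η i t) ∧
      (∀ t : ZMod p, t ≠ 0 → ∑ i, η i t = -1) ∧
      (∀ i j, ∃ k : (ZMod p)ˣ, ∀ t : ZMod p, η i ((k : ZMod p) * t) = η j t) := by
  classical
  have hp : p.Prime := Fact.out
  have hpC : (p : ℂ) ≠ 0 := Nat.cast_ne_zero.mpr hp.ne_zero
  set ψ : AddChar (ZMod p) ℂ := AddChar.zmodChar p hζ.pow_eq_one with hψdef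
  have hψ : ψ.IsPrimitive := AddChar.zmodChar_primitive_of_primitive_root p hζ
  have hψapp : ∀ a, ψ a = ζ ^ a.val := fun a => AddChar.zmodChar_apply _ a
  have hD' : ∀ t θ, D t θ = ∑ a : ZMod p, (v a θ : ℂ) * ψ (a * t) := by
    intro t θ
    rw [hD]
    exact Finset.sum_congr rfl fun a _ => by rw [hψapp]
  -- orthogonality
  have horth : ∀ b : ZMod p, ∑ x : ZMod p, ψ (x * b) = if b = 0 then (p : ℂ) else 0 := by
    intro b
    rw [AddChar.sum_mulShift b hψ, ZMod.card]
    split_ifs <;> simp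
  -- the stabiliser subgroup
  let E : Subgroup (ZMod p)ˣ :=
    { carrier := {s | ∀ a, v ((s : ZMod p) * a) = v a}
      mul_mem' := by
        intro s s' hs hs' a
        rw [Units.val_mul, mul_assoc, hs, hs']
      one_mem' := by
        intro a
        rw [Units.val_one, one_mul]
      inv_mem' := by
        intro s hs a
        have := hs ((s⁻¹ : (ZMod p)ˣ) * a)
        rw [← mul_assoc, ← Units.val_mul, mul_inv_cancel, Units.val_one, one_mul] at this
        exact this.symm }
  have hEmem : ∀ s : (ZMod p)ˣ, s ∈ E ↔ ∀ a, v ((s : ZMod p) * a) = v a := fun s => Iff.rfl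
  -- (2a)
  have hE1 : ∀ s ∈ E, ∀ t, D ((s : ZMod p) * t) = D t := by
    intro s hs t
    funext θ
    rw [hD', hD']
    rw [← Fintype.sum_equiv (Units.mulLeft s) (fun a => (v ((s : ZMod p) * a) θ : ℂ) *
      ψ ((s : ZMod p) * a * t)) (fun a => (v a θ : ℂ) * ψ (a * t)) (fun a => by simp)]
    refine Finset.sum_congr rfl fun a _ => ?_
    rw [(hEmem s).1 hs a]
    congr 2
    ring
  -- (2b)
  have hE2 : ∀ (s : (ZMod p)ˣ) (t : ZMod p), t ≠ 0 → D ((s : ZMod p) * t) = D t → s ∈ E := by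
    intro s t ht h
    have hinv : s⁻¹ ∈ E := by
      rw [hEmem]
      intro a
      funext θ
      have hη : IsPrimitiveRoot (ψ t) p := by
        rw [hψapp]
        refine hζ.pow_of_coprime _ ?_
        have h1 : ¬ p ∣ t.val := by
          intro hdvd
          have := Nat.eq_zero_of_dvd_of_lt hdvd (ZMod.val_lt t)
          exact ht ((ZMod.val_eq_zero t).mp this)
        exact ((Nat.Prime.coprime_iff_not_dvd hp).2 h1).symm
      have hpow : ∀ a : ZMod p, ψ (a * t) = ψ t ^ a.val := by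
        intro a
        rw [← AddChar.map_nsmul_eq_pow, nsmul_eq_mul, ZMod.natCast_zmod_val]
      have hsum : ∑ a : ZMod p,
          ((v (((s⁻¹ : (ZMod p)ˣ) : ZMod p) * a) θ - v a θ : ℤ) : ℂ) * ψ t ^ a.val = 0 := by
        have e1 : ∑ a : ZMod p, (v (((s⁻¹ : (ZMod p)ˣ) : ZMod p) * a) θ : ℂ) * ψ (a * t) =
            D ((s : ZMod p) * t) θ := by
          rw [hD']
          rw [← Fintype.sum_equiv (Units.mulLeft s)
            (fun a => (v (((s⁻¹ : (ZMod p)ˣ) : ZMod p) * ((s : ZMod p) * a)) θ : ℂ) *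
              ψ ((s : ZMod p) * a * t))
            (fun a => (v (((s⁻¹ : (ZMod p)ˣ) : ZMod p) * a) θ : ℂ) * ψ (a * t))
            (fun a => rfl)]
          refine Finset.sum_congr rfl fun a _ => ?_
          rw [← mul_assoc, ← Units.val_mul, inv_mul_cancel, Units.val_one, one_mul]
          congr 2
          ring
        have e2 := congrFun h θ
        rw [← e1, hD'] at e2
        rw [← sub_eq_zero, ← Finset.sum_sub_distrib] at e2
        rw [← e2]
        refine Finset.sum_congr rfl fun a _ => ?_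
        rw [hpow]
        push_cast
        ring
      have hc := Cfsg.Agent.Lib.BF.bfF_const_of_sum_pow_eq_zero (ψ t) hη
        (fun a => v (((s⁻¹ : (ZMod p)ˣ) : ZMod p) * a) θ - v a θ) hsum a 0
      simp only [mul_zero, sub_self] at hc
      exact sub_eq_zero.mp hc
    have h3 := E.inv_mem hinv
    rwa [inv_inv] at h3
  have hR : ∀ (s : (ZMod p)ˣ) (t : ZMod p), t ≠ 0 →
      ∑ θ, D t θ * conj (D ((s : ZMod p) * t) θ) = if s ∈ E then (p : ℂ) else 0 := by
    intro s t ht
    split_ifs with hs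
    · rw [hE1 s hs t]
      exact H3 t ht
    · rcases H2 t (s * t) ht (mul_ne_zero s.ne_zero ht) with h | h
      · exact absurd (hE2 s t ht h.symm) hs
      · exact h
  -- Fourier inversion
  have hinv : ∀ b θ, (p : ℂ) * (v b θ : ℂ) = ∑ t : ZMod p, D t θ * ψ (-(t * b)) := by
    intro b θ
    simp_rw [hD', Finset.sum_mul]
    rw [Finset.sum_comm]
    have : ∀ a : ZMod p, ∑ t : ZMod p, (v a θ : ℂ) * ψ (a * t) * ψ (-(t * b)) =
        (v a θ : ℂ) * (if a - b = 0 then (p : ℂ) else 0) := by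
      intro a
      rw [← horth (a - b), Finset.mul_sum]
      refine Finset.sum_congr rfl fun t _ => ?_
      rw [mul_assoc, ← AddChar.map_add_eq_mul]
      congr 2
      ring
    simp_rw [this, sub_eq_zero]
    simp [mul_comm]
  have hinv2 : ∀ b θ, (p : ℂ) * ((v b θ : ℂ) - (v 0 θ : ℂ)) =
      ∑ t : ZMod p, D t θ * (ψ (-(t * b)) - 1) := by
    intro b θ
    rw [mul_sub, hinv, hinv]
    rw [← Finset.sum_sub_distrib]
    refine Finset.sum_congr rfl fun t _ => ?_
    rw [mul_zero, neg_zero, AddChar.map_zero_eq_one]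
    ring
  -- the Gram computation
  have hgram : ∀ j j' : (ZMod p)ˣ,
      (p : ℂ) * (p : ℂ) * ∑ θ, ((v j θ : ℂ) - v 0 θ) * ((v j' θ : ℂ) - v 0 θ) =
        ∑ s : (ZMod p)ˣ, (if s ∈ E then (p : ℂ) else 0) *
          ((if (s : ZMod p) * j' - j = 0 then (p : ℂ) else 0) + p) := by
    intro j j'
    set cj : ZMod p → ℂ := fun t => ψ (-(t * j)) - 1 with hcj
    set cb : ZMod p → ℂ := fun t => ψ (t * j') - 1 with hcb
    have hcj0 : cj 0 = 0 := by simp [hcj]
    have hcb0 : cb 0 = 0 := by simp [hcb]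
    have step1 : (p : ℂ) * (p : ℂ) * ∑ θ, ((v j θ : ℂ) - v 0 θ) * ((v j' θ : ℂ) - v 0 θ) =
        ∑ t : ZMod p, cj t * ∑ t' : ZMod p, cb t' * ∑ θ, D t θ * conj (D t' θ) := by
      have hconj : ∀ θ, (p : ℂ) * ((v j' θ : ℂ) - v 0 θ) =
          ∑ t' : ZMod p, conj (D t' θ) * cb t' := by
        intro θ
        have h1 := congrArg conj (hinv2 j' θ)
        rw [map_mul, map_sub, map_sum] at h1
        simp only [map_natCast, map_intCast] at h1
        rw [h1]
        refine Finset.sum_congr rfl fun t' _ => ?_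
        rw [map_mul, map_sub, map_one, ← AddChar.map_neg_eq_conj, neg_neg]
      calc (p : ℂ) * (p : ℂ) * ∑ θ, ((v j θ : ℂ) - v 0 θ) * ((v j' θ : ℂ) - v 0 θ)
          = ∑ θ, ((p : ℂ) * ((v j θ : ℂ) - v 0 θ)) * ((p : ℂ) * ((v j' θ : ℂ) - v 0 θ)) := by
            rw [Finset.mul_sum]
            exact Finset.sum_congr rfl fun θ _ => by ring
        _ = ∑ θ, (∑ t : ZMod p, D t θ * cj t) * (∑ t' : ZMod p, conj (D t' θ) * cb t') := by
            refine Finset.sum_congr rfl fun θ _ => ?_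
            rw [hinv2 j θ, hconj θ]
        _ = ∑ θ, ∑ t : ZMod p, ∑ t' : ZMod p, cj t * (cb t' * (D t θ * conj (D t' θ))) := by
            refine Finset.sum_congr rfl fun θ _ => ?_
            rw [Finset.sum_mul_sum]
            exact Finset.sum_congr rfl fun t _ => Finset.sum_congr rfl fun t' _ => by ring
        _ = ∑ t : ZMod p, ∑ t' : ZMod p, ∑ θ, cj t * (cb t' * (D t θ * conj (D t' θ))) := by
            rw [Finset.sum_comm]
            refine Finset.sum_congr rfl fun t _ => ?_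
            rw [Finset.sum_comm]
        _ = _ := by
            refine Finset.sum_congr rfl fun t _ => ?_
            rw [Finset.mul_sum]
            refine Finset.sum_congr rfl fun t' _ => ?_
            rw [Finset.mul_sum, Finset.mul_sum]
    have step2 : ∀ t : ZMod p, cj t * ∑ t' : ZMod p, cb t' * ∑ θ, D t θ * conj (D t' θ) =
        cj t * ∑ s : (ZMod p)ˣ, cb ((s : ZMod p) * t) * (if s ∈ E then (p : ℂ) else 0) := by
      intro t
      by_cases ht : t = 0
      · rw [ht, hcj0, zero_mul, zero_mul]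
      · congr 1
        rw [← Cfsg.Agent.Lib.BF.bfF_sum_units_mul (fun t' => cb t' * ∑ θ, D t θ * conj (D t' θ))
          (by simp [hcb0]) t ht]
        refine Finset.sum_congr rfl fun s _ => ?_
        rw [hR s t ht]
    have step3 : ∀ s : (ZMod p)ˣ, ∑ t : ZMod p, cj t * cb ((s : ZMod p) * t) =
        (if (s : ZMod p) * j' - j = 0 then (p : ℂ) else 0) + p := by
      intro s
      have e1 : ∀ t : ZMod p, cj t * cb ((s : ZMod p) * t) =
          ψ (t * ((s : ZMod p) * j' - j)) - ψ (t * (-(j : ZMod p))) -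
            ψ (t * ((s : ZMod p) * j')) + 1 := by
        intro t
        simp only [hcj, hcb]
        have h1 : ψ (t * ((s : ZMod p) * j' - j)) = ψ (-(t * j)) * ψ ((s : ZMod p) * t * j') := by
          rw [← AddChar.map_add_eq_mul]
          congr 1
          ring
        rw [h1]
        have h2 : t * (-(j : ZMod p)) = -(t * j) := by ring
        rw [h2]
        have h3 : t * ((s : ZMod p) * j') = (s : ZMod p) * t * j' := by ring
        rw [h3]
        ring
      simp_rw [e1]
      rw [Finset.sum_add_distrib, Finset.sum_sub_distrib, Finset.sum_sub_distrib, horth, horth,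
        horth]
      rw [if_neg (neg_ne_zero.mpr j.ne_zero), if_neg (mul_ne_zero s.ne_zero j'.ne_zero)]
      simp [ZMod.card]
    rw [step1]
    simp_rw [step2]
    simp_rw [Finset.mul_sum]
    rw [Finset.sum_comm]
    refine Finset.sum_congr rfl fun s _ => ?_
    rw [← step3 s, Finset.mul_sum]
    exact Finset.sum_congr rfl fun t _ => by ring
  -- the cosets
  have hm : 1 ≤ Nat.card ((ZMod p)ˣ ⧸ E) := Nat.card_pos
  have he : 1 ≤ Nat.card E := Nat.card_pos
  have hpem : p = 1 + Nat.card E * Nat.card ((ZMod p)ˣ ⧸ E) := by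
    have h1 : Nat.card E * E.index = Nat.card (ZMod p)ˣ := Subgroup.card_mul_index E
    have h2 : Nat.card (ZMod p)ˣ = p - 1 := by
      rw [Nat.card_eq_fintype_card, ZMod.card_units]
    have h3 : Nat.card E * Nat.card ((ZMod p)ˣ ⧸ E) = p - 1 := by
      rw [← h2, ← h1]
      rfl
    have := hp.two_le
    omega
  let eqv : Fin (Nat.card ((ZMod p)ˣ ⧸ E)) ≃ (ZMod p)ˣ ⧸ E := (Finite.equivFin _).symm
  let rep : Fin (Nat.card ((ZMod p)ˣ ⧸ E)) → (ZMod p)ˣ := fun i => Quotient.out (eqv i)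
  have hrep : ∀ i, (QuotientGroup.mk (rep i) : (ZMod p)ˣ ⧸ E) = eqv i :=
    fun i => Quotient.out_eq _
  have hcover : ∀ a : (ZMod p)ˣ, ∃ i, ∃ s ∈ E, a = s * rep i := by
    intro a
    refine ⟨eqv.symm (QuotientGroup.mk a), (rep (eqv.symm (QuotientGroup.mk a)))⁻¹ * a, ?_, ?_⟩
    · rw [← QuotientGroup.eq, hrep, Equiv.apply_symm_apply]
    · rw [mul_comm, mul_inv_cancel_left]
  have hvrep : ∀ a : ZMod p, a ≠ 0 → ∃ i, v a = v (rep i) := by
    intro a ha
    obtain ⟨i, s, hs, hi⟩ := hcover (Units.mk0 a ha)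
    refine ⟨i, ?_⟩
    have h1 : a = (s : ZMod p) * (rep i : ZMod p) := by
      have := congrArg (fun u : (ZMod p)ˣ => (u : ZMod p)) hi
      simpa using this
    rw [h1, (hEmem s).1 hs]
  have hDt : ∀ t : ZMod p, t ≠ 0 → ∀ θ,
      D t θ = ∑ a : ZMod p, ((v a θ : ℂ) - v 0 θ) * ψ (a * t) := by
    intro t ht θ
    rw [hD']
    simp_rw [sub_mul]
    rw [Finset.sum_sub_distrib, ← Finset.mul_sum, horth t, if_neg ht, mul_zero, sub_zero]
  -- the units as `E × cosets` (for the Gauss periods)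
  have hbij0 : Function.Bijective
      (fun x : E × Fin (Nat.card ((ZMod p)ˣ ⧸ E)) => (x.1 : (ZMod p)ˣ) * rep x.2) := by
    constructor
    · rintro ⟨s, i⟩ ⟨s', i'⟩ h
      have h' : (s : (ZMod p)ˣ) * rep i = (s' : (ZMod p)ˣ) * rep i' := h
      have hi : i = i' := by
        apply eqv.injective
        rw [← hrep, ← hrep, QuotientGroup.eq]
        have h1 : (rep i)⁻¹ * rep i' = (s : (ZMod p)ˣ) * (s' : (ZMod p)ˣ)⁻¹ := by
          rw [inv_mul_eq_iff_eq_mul, mul_comm (rep i), mul_assoc, mul_comm _ (rep i), ← mul_assoc,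
            h', mul_comm (s' : (ZMod p)ˣ), mul_assoc, mul_inv_cancel, mul_one]
        rw [h1]
        exact E.mul_mem s.2 (E.inv_mem s'.2)
      subst hi
      have hs : (s : (ZMod p)ˣ) = s' := mul_right_cancel h'
      rw [Prod.mk.injEq]
      exact ⟨Subtype.ext hs, rfl⟩
    · intro a
      obtain ⟨i, s, hs, hi⟩ := hcover a
      exact ⟨(⟨s, hs⟩, i), hi.symm⟩
  have hsplitsum : ∀ g : ZMod p → ℂ, ∑ a : ZMod p, g a =
      g 0 + ∑ i, ∑ s : E, g (((s : (ZMod p)ˣ) : ZMod p) * ((rep i : (ZMod p)ˣ) : ZMod p)) := by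
    intro g
    set f : ZMod p → ℂ := fun a => if a = 0 then 0 else g a with hf
    have hf0 : f 0 = 0 := by simp [hf]
    have h1 : ∑ a : ZMod p, g a = g 0 + ∑ a : ZMod p, f a := by
      have hga : ∀ a : ZMod p, g a = (if a = 0 then g 0 else 0) + f a := by
        intro a
        by_cases ha : a = 0
        · simp [hf, ha]
        · simp [hf, ha]
      rw [Finset.sum_congr rfl (fun a _ => hga a), Finset.sum_add_distrib,
        Finset.sum_ite_eq' Finset.univ (0 : ZMod p), if_pos (Finset.mem_univ _)]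
    have h2 : ∑ a : ZMod p, f a = ∑ u : (ZMod p)ˣ, g (u : ZMod p) := by
      rw [← Cfsg.Agent.Lib.BF.bfF_sum_units_mul f hf0 1 one_ne_zero]
      refine Finset.sum_congr rfl fun u _ => ?_
      rw [mul_one]
      simp [hf, u.ne_zero]
    have h3 : ∑ u : (ZMod p)ˣ, g (u : ZMod p) =
        ∑ i, ∑ s : E, g (((s : (ZMod p)ˣ) : ZMod p) * ((rep i : (ZMod p)ˣ) : ZMod p)) := by
      rw [← Fintype.sum_bijective _ hbij0
        (fun x : E × Fin (Nat.card ((ZMod p)ˣ ⧸ E)) =>
          g (((x.1 : (ZMod p)ˣ) : ZMod p) * ((rep x.2 : (ZMod p)ˣ) : ZMod p)))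
        (fun u : (ZMod p)ˣ => g (u : ZMod p)) (fun x => by rw [Units.val_mul])]
      rw [Fintype.sum_prod_type, Finset.sum_comm]
    rw [h1, h2, h3]
  refine ⟨Nat.card ((ZMod p)ˣ ⧸ E), Nat.card E, fun i θ => v (rep i) θ - v 0 θ,
    fun i t => ∑ s : E, ψ (((s : (ZMod p)ˣ) : ZMod p) * ((rep i : (ZMod p)ˣ) : ZMod p) * t),
    hm, he, hpem, ?_, ?_, ?_, ?_, ?_, ?_, ?_, ?_, ?_, ?_⟩
  · intro i θ hθ
    simp only [hsupp _ θ hθ, sub_self]
  · intro i i'
    have hcast : ((∑ θ, (v (rep i) θ - v 0 θ) * (v (rep i') θ - v 0 θ) : ℤ) : ℂ) =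
        (((if i = i' then 1 else 0) + (Nat.card E : ℤ) : ℤ) : ℂ) := by
      apply mul_left_cancel₀ (mul_ne_zero hpC hpC)
      push_cast
      rw [hgram (rep i) (rep i')]
      have hterm : ∀ s : (ZMod p)ˣ, (if s ∈ E then (p : ℂ) else 0) *
          ((if (s : ZMod p) * (rep i' : ZMod p) - (rep i : ZMod p) = 0 then (p : ℂ) else 0) + p) =
          (if s ∈ E then (p : ℂ) * p else 0) +
            (if s = 1 then (if i = i' then (p : ℂ) * p else 0) else 0) := by
        intro s
        have hiff : (s ∈ E ∧ (s : ZMod p) * (rep i' : ZMod p) - (rep i : ZMod p) = 0) ↔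
            (s = 1 ∧ i = i') := by
          constructor
          · rintro ⟨hs, h0⟩
            have h1 : s * rep i' = rep i := by
              apply Units.ext
              rw [Units.val_mul]
              exact sub_eq_zero.mp h0
            have h2 : i' = i := by
              apply eqv.injective
              rw [← hrep, ← hrep, QuotientGroup.eq, ← h1]
              rw [mul_comm s, inv_mul_cancel_left]
              exact hs
            subst h2
            refine ⟨?_, rfl⟩
            exact mul_eq_right.mp h1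
          · rintro ⟨rfl, rfl⟩
            refine ⟨E.one_mem, ?_⟩
            rw [Units.val_one, one_mul, sub_self]
        by_cases hs : s ∈ E
        · by_cases h0 : (s : ZMod p) * (rep i' : ZMod p) - (rep i : ZMod p) = 0
          · obtain ⟨h1, h2⟩ := hiff.mp ⟨hs, h0⟩
            simp only [if_pos hs, if_pos h0, if_pos h1, if_pos h2]
            ring
          · have h3 : ¬ (s = 1 ∧ i = i') := fun h => h0 (hiff.mpr h).2
            by_cases h1 : s = 1
            · simp only [if_pos hs, if_neg h0, if_pos h1, if_neg (fun h => h3 ⟨h1, h⟩)]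
              ring
            · simp only [if_pos hs, if_neg h0, if_neg h1]
              ring
        · have h1 : s ≠ 1 := fun h => hs (h ▸ E.one_mem)
          simp only [if_neg hs, if_neg h1]
          ring
      simp_rw [hterm]
      rw [Finset.sum_add_distrib, Finset.sum_ite_eq' Finset.univ (1 : (ZMod p)ˣ),
        if_pos (Finset.mem_univ _), ← Finset.sum_filter, Finset.sum_const]
      have hcard : (Finset.univ.filter (fun s : (ZMod p)ˣ => s ∈ E)).card = Nat.card E := by
        rw [Nat.card_eq_fintype_card, Fintype.card_subtype]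
      rw [hcard]
      split_ifs <;> simp <;> ring
    exact_mod_cast hcast
  · intro θ hθ
    by_contra hcon0
    have hcon : ∀ i, v (rep i) θ - v 0 θ = 0 := fun i => by_contra fun h => hcon0 ⟨i, h⟩
    have hall : ∀ a : ZMod p, v a θ = v 0 θ := by
      intro a
      by_cases ha : a = 0
      · rw [ha]
      · obtain ⟨i, hi⟩ := hvrep a ha
        rw [hi]
        exact sub_eq_zero.mp (hcon i)
    apply H4 θ hθ
    rw [hD']
    simp_rw [hall]
    rw [← Finset.mul_sum, horth 1, if_neg one_ne_zero, mul_zero]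
  · intro y
    constructor
    · intro hy t ht
      have hya : ∀ a : ZMod p, ∑ θ, y θ * ((v a θ : ℂ) - v 0 θ) = 0 := by
        intro a
        by_cases ha : a = 0
        · simp [ha]
        · obtain ⟨i, hi⟩ := hvrep a ha
          rw [hi]
          have h1 := hy i
          simpa using h1
      have hDt : ∀ θ, D t θ = ∑ a : ZMod p, ((v a θ : ℂ) - v 0 θ) * ψ (a * t) := by
        intro θ
        rw [hD']
        simp_rw [sub_mul]
        rw [Finset.sum_sub_distrib, ← Finset.mul_sum, horth t, if_neg ht, mul_zero, sub_zero]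
      simp_rw [hDt, Finset.mul_sum]
      rw [Finset.sum_comm]
      refine Finset.sum_eq_zero fun a _ => ?_
      have h1 := hya a
      rw [show ∑ θ, y θ * (((v a θ : ℂ) - v 0 θ) * ψ (a * t)) =
          (∑ θ, y θ * ((v a θ : ℂ) - v 0 θ)) * ψ (a * t) by
        rw [Finset.sum_mul]
        exact Finset.sum_congr rfl fun θ _ => by ring]
      rw [h1, zero_mul]
    · intro hy i
      have h1 : (p : ℂ) * ∑ θ, y θ * ((v (rep i) θ : ℂ) - v 0 θ) = 0 := by
        rw [Finset.mul_sum]
        have h2 : ∀ θ, (p : ℂ) * (y θ * ((v (rep i) θ : ℂ) - v 0 θ)) =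
            ∑ t : ZMod p, (ψ (-(t * (rep i : ZMod p))) - 1) * (y θ * D t θ) := by
          intro θ
          rw [mul_left_comm, hinv2, Finset.mul_sum]
          exact Finset.sum_congr rfl fun t _ => by ring
        simp_rw [h2]
        rw [Finset.sum_comm]
        refine Finset.sum_eq_zero fun t _ => ?_
        rw [← Finset.mul_sum]
        by_cases ht : t = 0
        · simp [ht]
        · rw [hy t ht, mul_zero]
      have h2 := (mul_eq_zero.mp h1).resolve_left hpC
      rw [← h2]
      refine Finset.sum_congr rfl fun θ _ => ?_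
      push_cast
      ring
  · -- (N1)
    refine Nat.card_congr (Equiv.subtypeEquivRight fun s => ?_)
    constructor
    · intro h
      refine hE2 s 1 one_ne_zero ?_
      rw [mul_one]
      exact h
    · intro hs
      have := hE1 s hs 1
      rwa [mul_one] at this
  · -- (N2)
    intro θ
    -- the sum over all `t`
    have hall : ∑ t : ZMod p, D t θ = (p : ℂ) * (v 0 θ : ℂ) := by
      rw [hinv 0 θ]
      refine Finset.sum_congr rfl fun t _ => ?_
      rw [mul_zero, neg_zero, AddChar.map_zero_eq_one, mul_one]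
    have hD0 : D 0 θ = ∑ a : ZMod p, (v a θ : ℂ) := by
      rw [hD']
      refine Finset.sum_congr rfl fun a _ => ?_
      rw [mul_zero, AddChar.map_zero_eq_one, mul_one]
    have hsplit : ∑ t ∈ Finset.univ.filter (fun t : ZMod p => t ≠ 0), D t θ =
        ∑ t : ZMod p, D t θ - D 0 θ := by
      rw [Finset.filter_ne' Finset.univ (0 : ZMod p), eq_sub_iff_add_eq,
        Finset.sum_erase_add _ _ (Finset.mem_univ _)]
    -- the sum of `v a θ - v 0 θ` over `a`
    set f : ZMod p → ℂ := fun a => (v a θ : ℂ) - v 0 θ with hf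
    have hf0 : f 0 = 0 := by simp [hf]
    have hsumf : ∑ a : ZMod p, f a = ∑ a : ZMod p, (v a θ : ℂ) - (p : ℂ) * (v 0 θ : ℂ) := by
      rw [hf, Finset.sum_sub_distrib, Finset.sum_const, Finset.card_univ, ZMod.card,
        nsmul_eq_mul]
    have hunits : ∑ a : ZMod p, f a = ∑ u : (ZMod p)ˣ, f (u : ZMod p) := by
      rw [← Cfsg.Agent.Lib.BF.bfF_sum_units_mul f hf0 1 one_ne_zero]
      refine Finset.sum_congr rfl fun u _ => ?_
      rw [mul_one]
    -- the units as `E × cosets`
    have hbij : Function.Bijective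
        (fun x : E × Fin (Nat.card ((ZMod p)ˣ ⧸ E)) => (x.1 : (ZMod p)ˣ) * rep x.2) := by
      constructor
      · rintro ⟨s, i⟩ ⟨s', i'⟩ h
        have h' : (s : (ZMod p)ˣ) * rep i = (s' : (ZMod p)ˣ) * rep i' := h
        have hi : i = i' := by
          apply eqv.injective
          rw [← hrep, ← hrep, QuotientGroup.eq]
          have h1 : (rep i)⁻¹ * rep i' = (s : (ZMod p)ˣ) * (s' : (ZMod p)ˣ)⁻¹ := by
            rw [inv_mul_eq_iff_eq_mul, mul_comm (rep i), mul_assoc, mul_comm _ (rep i), ← mul_assoc,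
              h', mul_comm (s' : (ZMod p)ˣ), mul_assoc, mul_inv_cancel, mul_one]
          rw [h1]
          exact E.mul_mem s.2 (E.inv_mem s'.2)
        subst hi
        have hs : (s : (ZMod p)ˣ) = s' := mul_right_cancel h'
        rw [Prod.mk.injEq]
        exact ⟨Subtype.ext hs, rfl⟩
      · intro a
        obtain ⟨i, s, hs, hi⟩ := hcover a
        exact ⟨(⟨s, hs⟩, i), hi.symm⟩
    have hprod : ∑ u : (ZMod p)ˣ, f (u : ZMod p) =
        (Nat.card E : ℂ) * ∑ i, f ((rep i : (ZMod p)ˣ) : ZMod p) := by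
      rw [← Fintype.sum_bijective _ hbij
        (fun x : E × Fin (Nat.card ((ZMod p)ˣ ⧸ E)) => f ((rep x.2 : (ZMod p)ˣ) : ZMod p))
        (fun u : (ZMod p)ˣ => f (u : ZMod p))]
      · simp only [Fintype.sum_prod_type, Finset.sum_const, Finset.card_univ, nsmul_eq_mul,
          Nat.card_eq_fintype_card]
      · rintro ⟨s, i⟩
        simp only [hf]
        rw [Units.val_mul, (hEmem s).1 s.2]
    rw [hsplit, hall, hD0]
    have hΘ : ∑ i, (((v (rep i) θ - v 0 θ : ℤ)) : ℂ) =
        ∑ i, f ((rep i : (ZMod p)ˣ) : ZMod p) := by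
      refine Finset.sum_congr rfl fun i _ => ?_
      simp only [hf]
      push_cast
      ring
    rw [hΘ, ← hprod, ← hunits, hsumf]
    ring
  · -- (N3)
    intro θ hconst i t ht
    have hva : ∀ a : ZMod p, a ≠ 0 → (v a θ : ℂ) - v 0 θ = ((v (rep i) θ - v 0 θ : ℤ) : ℂ) := by
      intro a ha
      obtain ⟨i', hi'⟩ := hvrep a ha
      have hc : v (rep i') θ - v 0 θ = v (rep i) θ - v 0 θ := hconst i' i
      rw [hi', ← hc, Int.cast_sub]
    rw [hDt t ht θ]
    have hterm : ∀ a : ZMod p, ((v a θ : ℂ) - v 0 θ) * ψ (a * t) =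
        ((v (rep i) θ - v 0 θ : ℤ) : ℂ) * ψ (a * t) -
          (if a = 0 then ((v (rep i) θ - v 0 θ : ℤ) : ℂ) else 0) := by
      intro a
      by_cases ha : a = 0
      · rw [ha, if_pos rfl, zero_mul, AddChar.map_zero_eq_one, sub_self, zero_mul, mul_one,
          sub_self]
      · rw [if_neg ha, sub_zero, hva a ha]
    simp_rw [hterm]
    rw [Finset.sum_sub_distrib, ← Finset.mul_sum, horth t, if_neg ht, mul_zero,
      Finset.sum_ite_eq' Finset.univ (0 : ZMod p), if_pos (Finset.mem_univ _), zero_sub]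
  · -- (E1) the Gauss period expansion
    intro θ t ht
    rw [hDt t ht θ, hsplitsum (fun a => ((v a θ : ℂ) - v 0 θ) * ψ (a * t))]
    simp only [sub_self, zero_mul, zero_add]
    refine Finset.sum_congr rfl fun i _ => ?_
    rw [Finset.mul_sum]
    refine Finset.sum_congr rfl fun s _ => ?_
    rw [(hEmem s).1 s.2]
    push_cast
    ring
  · -- (E2) the periods sum to `-1`
    intro t ht
    have h1 := hsplitsum (fun a => ψ (a * t))
    rw [horth t, if_neg ht] at h1
    simp only [zero_mul, AddChar.map_zero_eq_one] at h1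
    linear_combination -h1
  · -- (E3) the periods are permuted transitively
    intro i j
    refine ⟨rep j * (rep i)⁻¹, fun t => ?_⟩
    refine Finset.sum_congr rfl fun s _ => ?_
    congr 1
    rw [Units.val_mul]
    have h1 : ((rep i : (ZMod p)ˣ) : ZMod p) * (((rep i)⁻¹ : (ZMod p)ˣ) : ZMod p) = 1 :=
      Units.mul_inv _
    linear_combination (((s : (ZMod p)ˣ) : ZMod p) * ((rep j : (ZMod p)ˣ) : ZMod p) * t) * h1

end Cfsg.Agent.Lib.Helper29.DG
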