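import Mathlib
import Cfsg.Agent.Lib.Helper58.JUDefs

/-! S2950 project JU (helper58), piece CMX: in the abstract setting, a second subgroup `K'` of the
same kind normalizes the four-group `W` of `K`. -/

set_option autoImplicit false

namespace Cfsg.Agent.Lib.Helper29.JU

open Cfsg.Agent.Lib.Helper58.JU Cfsg.Agent.Lib.Helper72.JL Cfsg.Agent.Lib.Helper72.SC
  Cfsg.Agent.Lib.Helper72.JM Cfsg.Agent.Lib.Helper72.JP Cfsg.Agent.Lib.Helper78.JN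
  Cfsg.Agent.Lib.Helper78.Jc

open scoped commutatorElement

universe u

theorem cmx (hVab : VabStmt.{u}) (hO2 : O2Stmt.{u}) (hPs : PsStmt.{u}) (hExt2 : Ext2Stmt.{u})
    (hKn : KnStmt.{u}) (hCt : CtStmt.{u}) (hC2 : C2Stmt.{u}) (hWv : WvStmt.{u}) :
    CmxStmt.{u} := by
  unfold CmxStmt
  intro X _ _ T hS 𝒮 K K' W h𝒮 hKJ hKodd hK'J hK'odd hQK hdata g hg
  classical
  obtain ⟨P, k, hPK, hP2, hK2, hkK, hk3, hKk, hWP, hW4, hW2, hkW, hfpf, hu⟩ := hdata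
  obtain ⟨hVQ, hVc, hV2, hQT, hQV⟩ := hVab X T hS
  have hab : ∀ a b : ↥(VT T), a * b = b * a := fun a b => Subtype.ext (hVc a a.2 b b.2)
  have hexp : ∀ v : ↥(VT T), v ^ 2 = 1 := fun v => by
    apply Subtype.ext
    rw [pow_two]
    exact hV2 v v.2
  obtain ⟨N, hNle, hNnorm, hN3, hNsq, hNab⟩ :=
    hExt2 ↥(VT T) (rhoT T).range hab hexp (hPs X T hS) (hO2 X T hS)
  have hKN := hKn X T hS N hNsq 𝒮 K h𝒮 hKJ hKodd
  have hK'N := hKn X T hS N hNsq 𝒮 K' h𝒮 hK'J hK'odd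
  obtain ⟨hQker, hCT⟩ := hCt X T hS
  have hVn : (VT T).Normal := inferInstance
  have hQ2 : IsPGroup 2 ↥(Cfsg.pCore 2 X) :=
    Sylow.sSup_of_normal _ (fun _ hK => hK.2) (fun _ hK => hK.1)
  have hPQ : P ≤ Cfsg.pCore 2 X := fun p hp =>
    hC2 X T hS N hN3 p (hKN ⟨p, hPK hp, rfl⟩) (hP2 p hp)
  have hkV : ∀ v ∈ VT T, ⁅k, v⁆ ∈ W :=
    hWv X (VT T) (Cfsg.pCore 2 X) K P W k inferInstance hVQ hVc hV2 hQV hQK hPQ hK2 hkK hk3 hkW hu
  have hρk : rhoT T k ∈ N := hKN ⟨k, hkK, rfl⟩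
  have hρg : rhoT T g ∈ N := hK'N ⟨g, hg, rfl⟩
  -- (1) some commutator `⁅k, v₀⁆` is nontrivial
  have hex : ∃ v₀ ∈ VT T, ⁅k, v₀⁆ ≠ 1 := by
    by_contra hcon
    have hall1 : ∀ v ∈ VT T, ⁅k, v⁆ = 1 := by
      intro v hv
      by_contra h
      exact hcon ⟨v, hv, h⟩
    have hkker : k ∈ (rhoT T).ker := by
      rw [MonoidHom.mem_ker]
      apply MulEquiv.ext
      intro v
      apply Subtype.ext
      show k * (v : X) * k⁻¹ = (v : X)
      have h := hall1 v v.2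
      rw [commutatorElement_def] at h
      exact mul_inv_eq_one.mp h
    have hKker : K ≤ (rhoT T).ker := by
      intro x hx
      obtain ⟨p, hp, i, rfl⟩ := hKk x hx
      exact mul_mem (hQker (hPQ hp)) (pow_mem hkker i)
    have hJT : sSup 𝒮 ≤ T := sSup_le (fun A hA => (h𝒮 A hA).1)
    have hKQ : ⁅K, sSup 𝒮⁆ ≤ Cfsg.pCore 2 X := by
      rw [Subgroup.commutator_le]
      intro x hx j hj
      exact hCT x (hKker hx) j (hJT hj)
    rw [hKJ] at hKQ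
    obtain ⟨n, hn⟩ := hQ2 ⟨k, hKQ hkK⟩
    have hk2 : k ^ 2 ^ n = 1 := by
      have h := congrArg Subtype.val hn
      rw [Subgroup.coe_pow, Subgroup.coe_one] at h
      exact h
    have hk1 : k = 1 := by
      have h1 : orderOf k ∣ 2 ^ n := orderOf_dvd_of_pow_eq_one hk2
      have h2 : orderOf k ∣ 3 := orderOf_dvd_of_pow_eq_one hk3
      have h3 : orderOf k ∣ Nat.gcd (2 ^ n) 3 := Nat.dvd_gcd h1 h2
      have h4 : Nat.gcd (2 ^ n) 3 = 1 := Nat.Coprime.pow_left n (by norm_num)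
      rw [h4, Nat.dvd_one] at h3
      exact orderOf_eq_one_iff.mp h3
    have hWbot : W = ⊥ := by
      rw [Subgroup.eq_bot_iff_forall]
      intro w hw
      apply hfpf w hw
      rw [hk1]
      group
    rw [hWbot, Subgroup.card_bot] at hW4
    omega
  obtain ⟨v₀, hv₀, hw₀ne⟩ := hex
  -- multiplicativity of `v ↦ ⁅k, v⁆` on `VT T`
  have hmul : ∀ a ∈ VT T, ∀ b ∈ VT T, ⁅k, a * b⁆ = ⁅k, a⁆ * ⁅k, b⁆ := by
    intro a ha b hb
    have hcomm : a⁻¹ * (k * b * k⁻¹ * b⁻¹) = (k * b * k⁻¹ * b⁻¹) * a⁻¹ :=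
      hVc _ (inv_mem ha) _ (mul_mem (hVn.conj_mem b hb k) (inv_mem hb))
    rw [commutatorElement_def, commutatorElement_def, commutatorElement_def]
    calc k * (a * b) * k⁻¹ * (a * b)⁻¹ = k * a * k⁻¹ * ((k * b * k⁻¹ * b⁻¹) * a⁻¹) := by group
      _ = k * a * k⁻¹ * (a⁻¹ * (k * b * k⁻¹ * b⁻¹)) := by rw [hcomm]
      _ = k * a * k⁻¹ * a⁻¹ * (k * b * k⁻¹ * b⁻¹) := by group
  -- (2) the four elements of `W`
  obtain ⟨w₀, hw₀def⟩ : ∃ w₀ : X, w₀ = ⁅k, v₀⁆ := ⟨_, rfl⟩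
  obtain ⟨w₁, hw₁def⟩ : ∃ w₁ : X, w₁ = k * w₀ * k⁻¹ := ⟨_, rfl⟩
  have hw₀ne' : w₀ ≠ 1 := by rw [hw₀def]; exact hw₀ne
  have hw₀W : w₀ ∈ W := by rw [hw₀def]; exact hkV v₀ hv₀
  have hw₁W : w₁ ∈ W := by rw [hw₁def]; exact hkW w₀ hw₀W
  have hw₁ne : w₁ ≠ w₀ := fun h => hw₀ne' (hfpf w₀ hw₀W (by rw [← hw₁def]; exact h))
  have hw₁ne1 : w₁ ≠ 1 := by
    intro h
    apply hw₀ne'
    have e : w₀ = k⁻¹ * w₁ * k := by rw [hw₁def]; group
    rw [e, h]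
    group
  have hsq : w₀ * w₀ = 1 := hW2 w₀ hw₀W
  have h1 : (1 : X) ∉ ({w₀, w₁, w₀ * w₁} : Finset X) := by
    simp only [Finset.mem_insert, Finset.mem_singleton, not_or]
    refine ⟨fun h => hw₀ne' h.symm, fun h => hw₁ne1 h.symm, fun h => ?_⟩
    apply hw₁ne
    calc w₁ = w₀ * w₀ * w₁ := by rw [hsq, one_mul]
      _ = w₀ * (w₀ * w₁) := by group
      _ = w₀ := by rw [← h, mul_one]
  have h2 : w₀ ∉ ({w₁, w₀ * w₁} : Finset X) := by
    simp only [Finset.mem_insert, Finset.mem_singleton, not_or]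
    refine ⟨fun h => hw₁ne h.symm, fun h => ?_⟩
    exact hw₁ne1 (left_eq_mul.mp h)
  have h3 : w₁ ∉ ({w₀ * w₁} : Finset X) := by
    simp only [Finset.mem_singleton]
    intro h
    exact hw₀ne' (right_eq_mul.mp h)
  have hcard : ({1, w₀, w₁, w₀ * w₁} : Finset X).card = 4 := by
    rw [Finset.card_insert_of_notMem h1, Finset.card_insert_of_notMem h2,
      Finset.card_insert_of_notMem h3, Finset.card_singleton]
  have hsub : (({1, w₀, w₁, w₀ * w₁} : Finset X) : Set X) ⊆ (W : Set X) := by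
    intro x hx
    simp only [Finset.coe_insert, Finset.coe_singleton, Set.mem_insert_iff,
      Set.mem_singleton_iff] at hx
    rcases hx with h | h | h | h
    · rw [h]; exact W.one_mem
    · rw [h]; exact hw₀W
    · rw [h]; exact hw₁W
    · rw [h]; exact W.mul_mem hw₀W hw₁W
  have hWeq : (({1, w₀, w₁, w₀ * w₁} : Finset X) : Set X) = (W : Set X) := by
    apply Set.eq_of_subset_of_ncard_le hsub _ (Set.toFinite _)
    rw [Set.ncard_coe_finset, hcard, ← hW4]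
    exact (Nat.card_coe_set_eq (W : Set X)).symm.le
  have hall : ∀ w ∈ W, ∃ v ∈ VT T, w = ⁅k, v⁆ := by
    intro w hw
    have hw' : w ∈ (({1, w₀, w₁, w₀ * w₁} : Finset X) : Set X) := by
      rw [hWeq]
      exact hw
    simp only [Finset.coe_insert, Finset.coe_singleton, Set.mem_insert_iff,
      Set.mem_singleton_iff] at hw'
    have e1 : w₁ = ⁅k, k * v₀ * k⁻¹⁆ := by
      rw [hw₁def, hw₀def, commutatorElement_def, commutatorElement_def]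
      group
    rcases hw' with h | h | h | h
    · exact ⟨1, one_mem _, by rw [h, commutatorElement_def]; group⟩
    · exact ⟨v₀, hv₀, by rw [h, hw₀def]⟩
    · exact ⟨k * v₀ * k⁻¹, hVn.conj_mem v₀ hv₀ k, by rw [h, e1]⟩
    · refine ⟨v₀ * (k * v₀ * k⁻¹), mul_mem hv₀ (hVn.conj_mem v₀ hv₀ k), ?_⟩
      rw [h, hmul v₀ hv₀ _ (hVn.conj_mem v₀ hv₀ k), ← e1, ← hw₀def]
  -- (3) conjugation by `g ∈ K'`
  intro w hw
  obtain ⟨v, hv, rfl⟩ := hall w hw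
  have hv' : g * v * g⁻¹ ∈ VT T := hVn.conj_mem v hv g
  have hρ : rhoT T (g * k * g⁻¹) = rhoT T k := by
    rw [map_mul, map_mul, map_inv, hNab _ hρg _ hρk, mul_assoc, mul_inv_cancel, mul_one]
  have h5 := congrArg (fun f : MulAut ↥(VT T) => ((f ⟨g * v * g⁻¹, hv'⟩ : ↥(VT T)) : X)) hρ
  have h6 : (g * k * g⁻¹) * (g * v * g⁻¹) * (g * k * g⁻¹)⁻¹ = k * (g * v * g⁻¹) * k⁻¹ := h5
  have e : g * ⁅k, v⁆ * g⁻¹ = ⁅k, g * v * g⁻¹⁆ := by
    rw [commutatorElement_def, commutatorElement_def]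
    calc g * (k * v * k⁻¹ * v⁻¹) * g⁻¹ =
          ((g * k * g⁻¹) * (g * v * g⁻¹) * (g * k * g⁻¹)⁻¹) * (g * v * g⁻¹)⁻¹ := by group
      _ = k * (g * v * g⁻¹) * k⁻¹ * (g * v * g⁻¹)⁻¹ := by rw [h6]
  rw [e]
  exact hkV _ hv'

end Cfsg.Agent.Lib.Helper29.JU
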