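import Mathlib
import Cfsg.Agent.Lib.Helper72.SCDefs

/-!
# S4394 project SC, piece FIN

Final contradiction for `p ∈ {2, 3}` and `|P : Z(P)| = p ^ 2`.
-/

set_option autoImplicit false

namespace Cfsg.Agent.Lib.Helper29.SC

open Cfsg.Agent.Lib.Helper72.SC
open scoped commutatorElement

universe u

theorem fin_pow_apply {P : Type*} [Group P] (y : MulAut P) (u z : P) (hz : y z = z)
    (hu : y u = u * z) : ∀ k : ℕ, (y ^ k) u = u * z ^ k := by
  intro k
  induction k with
  | zero => simp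
  | succ k ih =>
    rw [pow_succ', MulAut.mul_apply, ih, map_mul, map_pow, hu, hz, pow_succ', mul_assoc]

theorem fin_fixed_of_central {P : Type*} [Group P] (p : ℕ) [Fact p.Prime]
    (hP : IsPGroup p P) (y : MulAut P) (q : ℕ) (hq : q.Prime) (hqp : q ≠ p) (hyq : y ^ q = 1)
    (u z : P) (hz : y z = z) (hu : y u = u * z) : y u = u := by
  have h1 := fin_pow_apply y u z hz hu q
  rw [hyq, MulAut.one_apply] at h1
  have h2 : z ^ q = 1 := by
    have h20 : u * z ^ q = u * 1 := by rw [mul_one]; exact h1.symm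
    exact mul_left_cancel h20
  obtain ⟨k, hk⟩ := hP z
  have h3 : orderOf z ∣ q := orderOf_dvd_of_pow_eq_one h2
  have h4 : orderOf z ∣ p ^ k := orderOf_dvd_of_pow_eq_one hk
  have h5 : orderOf z = 1 := by
    rcases (Nat.dvd_prime hq).1 h3 with h | h
    · exact h
    · exfalso
      rw [h] at h4
      exact hqp ((Nat.prime_dvd_prime_iff_eq hq (Fact.out : p.Prime)).1
        (hq.dvd_of_dvd_pow h4))
  have h6 : z = 1 := orderOf_eq_one_iff.1 h5
  rw [hu, h6, mul_one]

/-- the fixed points of an automorphism -/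
def fin_fix {P : Type*} [Group P] (y : MulAut P) : Subgroup P where
  carrier := {u | y u = u}
  one_mem' := map_one y
  mul_mem' := by
    intro a b ha hb
    have ha' : y a = a := ha
    have hb' : y b = b := hb
    show y (a * b) = a * b
    rw [map_mul, ha', hb']
  inv_mem' := by
    intro a ha
    have ha' : y a = a := ha
    show y a⁻¹ = a⁻¹
    rw [map_inv, ha']

theorem fin_mem_fix {P : Type*} [Group P] (y : MulAut P) (u : P) :
    u ∈ fin_fix y ↔ y u = u := Iff.rfl

theorem fin_card_modEq {P : Type*} [Group P] [Finite P] (y : MulAut P) (q : ℕ)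
    [Fact q.Prime] (hyq : y ^ q = 1) (hy1 : y ≠ 1) :
    Nat.card P ≡ Nat.card (fin_fix y) [MOD q] := by
  have hord : orderOf y = q := orderOf_eq_prime hyq hy1
  have hcard : Nat.card (Subgroup.zpowers y) = q ^ 1 := by
    rw [Nat.card_zpowers, hord, pow_one]
  have hpg : IsPGroup q (Subgroup.zpowers y) := IsPGroup.of_card hcard
  have h := hpg.card_modEq_card_fixedPoints P
  have hfix : Nat.card (MulAction.fixedPoints (Subgroup.zpowers y) P)
      = Nat.card (fin_fix y) := by
    apply Nat.card_congr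
    apply Equiv.subtypeEquivRight
    intro u
    rw [MulAction.mem_fixedPoints]
    constructor
    · intro h
      exact h ⟨y, Subgroup.mem_zpowers y⟩
    · intro h g
      have hst : Subgroup.zpowers y ≤ MulAction.stabilizer (MulAut P) u := by
        rw [Subgroup.zpowers_le]
        exact h
      exact hst g.2
  rw [hfix] at h
  exact h

theorem fin_three {P : Type*} [Group P] (y : MulAut P) (hy2 : y ^ 2 = 1) (hy1 : y ≠ 1)
    (hpow : ∀ u : P, u ^ 3 ∈ Subgroup.center P)
    (hKey : ∀ u : P, u⁻¹ * y u ∈ Subgroup.center P → y u = u)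
    (hK : ∀ K : Subgroup P, K ≠ ⊤ → (∀ k ∈ K, y k ∈ K) → ∀ k ∈ K, y k = k) : False := by
  obtain ⟨u0, hu0⟩ : ∃ u0 : P, y u0 ≠ u0 := by
    by_contra h
    push Not at h
    exact hy1 (by ext u; exact h u)
  have hyy : ∀ u : P, y (y u) = u := by
    intro u
    have h1 := congrArg (fun f : MulAut P => f u) hy2
    simpa [pow_two] using h1
  obtain ⟨d, hd⟩ : ∃ d : P, d = u0⁻¹ * y u0 := ⟨_, rfl⟩
  have hdZ : d ∉ Subgroup.center P := by
    intro h
    rw [hd] at h
    exact hu0 (hKey u0 h)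
  have hyd : y d = d⁻¹ := by
    rw [hd, map_mul, map_inv, hyy]
    group
  have hKtop : Subgroup.centralizer ({d} : Set P) ≠ ⊤ := by
    intro h
    rw [Subgroup.centralizer_eq_top_iff_subset] at h
    exact hdZ (h (Set.mem_singleton d))
  have hKinv : ∀ k ∈ Subgroup.centralizer ({d} : Set P),
      y k ∈ Subgroup.centralizer ({d} : Set P) := by
    intro k hk
    rw [Subgroup.mem_centralizer_iff] at hk ⊢
    intro h hh
    rw [Set.mem_singleton_iff] at hh
    rw [hh]
    have h1 : d * k = k * d := hk d (Set.mem_singleton d)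
    have h2 : d⁻¹ * k = k * d⁻¹ := by
      calc d⁻¹ * k = d⁻¹ * (k * d) * d⁻¹ := by group
        _ = d⁻¹ * (d * k) * d⁻¹ := by rw [h1]
        _ = k * d⁻¹ := by group
    have h3 := congrArg y h2
    rw [map_mul, map_mul, map_inv, hyd, inv_inv] at h3
    exact h3
  have hdK : d ∈ Subgroup.centralizer ({d} : Set P) := by
    rw [Subgroup.mem_centralizer_iff]
    intro h hh
    rw [Set.mem_singleton_iff] at hh
    rw [hh]
  have h4 := hK _ hKtop hKinv d hdK
  rw [hyd] at h4
  have h5 : d * d = 1 := by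
    calc d * d = d * d⁻¹ := by rw [h4]
      _ = 1 := mul_inv_cancel d
  have h6 : d ^ 3 = d := by
    rw [pow_succ, pow_two, h5, one_mul]
  exact hdZ (h6 ▸ hpow d)

theorem fin_two {P : Type*} [Group P] (y : MulAut P) (hy3 : y ^ 3 = 1)
    (hcomm : ∀ u v : P, ⁅u, v⁆ ∈ Subgroup.center P)
    (hpow : ∀ u : P, u ^ 2 ∈ Subgroup.center P)
    (hse : ∀ u : P, u ∉ Subgroup.center P → ∀ z ∈ Subgroup.center P, ∃ v : P, ⁅u, v⁆ = z)
    (hZtop : Subgroup.center P ≠ ⊤)
    (hyZ : ∀ z ∈ Subgroup.center P, y z = z)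
    (hKey : ∀ u : P, u⁻¹ * y u ∈ Subgroup.center P → y u = u)
    (hFZ : ∀ u : P, y u = u → u ∈ Subgroup.center P)
    (R Z1 : Subgroup P) (hZR : Subgroup.center P ≤ R) (hRidx : R.index = 2)
    (hZ1 : Z1 ≤ Subgroup.center P) (hZ1ne : Z1 ≠ Subgroup.center P)
    (hRpow : ∀ u ∈ R, u ^ 2 ∈ Z1) : False := by
  have hyyy : ∀ u : P, y (y (y u)) = u := by
    intro u
    have h1 := congrArg (fun f : MulAut P => f u) hy3
    simpa [pow_succ] using h1
  have hA : ∀ w : P, w ∈ R ∨ y w ∈ R ∨ y (y w) ∈ R := by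
    intro w
    by_contra hcon
    push Not at hcon
    obtain ⟨h1, h2, h3⟩ := hcon
    have h12 : w * y w ∈ R :=
      (Subgroup.mul_mem_iff_of_index_two hRidx).2 (iff_of_false h1 h2)
    have ht : w * y w * y (y w) ∉ R := by
      intro h
      exact h3 ((Subgroup.mul_mem_cancel_left R h12).1 h)
    have hyt : y (w * y w * y (y w)) = w * y w * y (y w) := by
      apply hKey
      rw [map_mul, map_mul, hyyy]
      have e : (w * y w * y (y w))⁻¹ * (y w * y (y w) * w)
          = ⁅(y w * y (y w))⁻¹, w⁻¹⁆ := by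
        rw [commutatorElement_def]; group
      rw [e]
      exact hcomm _ _
    exact ht (hZR (hFZ _ hyt))
  have hB : ∀ w : P, w ^ 2 ∈ Z1 := by
    intro w
    rcases hA w with h | h | h
    · exact hRpow w h
    · have h1 := hRpow _ h
      rw [← map_pow] at h1
      have h2 := hyZ _ (hZ1 h1)
      have h3 := hyyy (w ^ 2)
      rw [h2, h2] at h3
      rw [← h3]; exact h1
    · have h1 := hRpow _ h
      rw [← map_pow, ← map_pow] at h1
      have h2 := hyZ _ (hZ1 h1)
      rw [hyyy] at h2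
      rw [h2]; exact h1
  have hC : ∀ u v : P, ⁅u, v⁆ ∈ Z1 := by
    intro u v
    have hc : u * u * v = v * (u * u) := by
      have h1 := Subgroup.mem_center_iff.1 (hpow u) v
      rw [pow_two] at h1
      exact h1.symm
    have hc' : v * (u * u)⁻¹ = (u * u)⁻¹ * v := by
      calc v * (u * u)⁻¹ = (u * u)⁻¹ * (u * u * v) * (u * u)⁻¹ := by group
        _ = (u * u)⁻¹ * (v * (u * u)) * (u * u)⁻¹ := by rw [hc]
        _ = (u * u)⁻¹ * v := by group
    have e : ⁅u, v⁆ = (u * v) ^ 2 * (u ^ 2)⁻¹ * (v ^ 2)⁻¹ := by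
      rw [commutatorElement_def, pow_two, pow_two, pow_two]
      symm
      calc u * v * (u * v) * (u * u)⁻¹ * (v * v)⁻¹
          = u * v * u * (v * (u * u)⁻¹) * (v * v)⁻¹ := by group
        _ = u * v * u * ((u * u)⁻¹ * v) * (v * v)⁻¹ := by rw [hc']
        _ = u * v * u⁻¹ * v⁻¹ := by group
    rw [e]
    exact Z1.mul_mem (Z1.mul_mem (hB _) (Z1.inv_mem (hB u))) (Z1.inv_mem (hB v))
  obtain ⟨u, hu⟩ : ∃ u : P, u ∉ Subgroup.center P := by
    by_contra h
    push Not at h
    exact hZtop (eq_top_iff.2 (fun u _ => h u))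
  obtain ⟨z, hz, hz1⟩ : ∃ z ∈ Subgroup.center P, z ∉ Z1 := by
    by_contra h
    push Not at h
    exact hZ1ne (le_antisymm hZ1 h)
  obtain ⟨v, hv⟩ := hse u hu z hz
  exact hz1 (hv ▸ hC u v)

/-- SC-FIN -/
theorem fin : FinStmt.{u} := by
  intro P _ _ p _ hP hSch hp23 hcomm hpow hse hidx R Z1 hZR hRidx hZ1 hZ1ne hRpow
  classical
  obtain ⟨y, q, hq, hqp, hyq, hy1, hK⟩ := hSch
  have hp : p.Prime := Fact.out
  have hZtop : Subgroup.center P ≠ ⊤ := by
    intro h
    rw [h, Subgroup.index_top] at hidx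
    have h1 := hp.one_lt
    nlinarith
  have hyZ : ∀ z ∈ Subgroup.center P, y z = z := by
    apply hK _ hZtop
    intro k hk
    rw [Subgroup.mem_center_iff] at hk ⊢
    intro g
    have h1 := congrArg y (hk (y.symm g))
    simpa using h1
  have hKey : ∀ u : P, u⁻¹ * y u ∈ Subgroup.center P → y u = u := by
    intro u hu
    exact fin_fixed_of_central p hP y q hq hqp hyq u (u⁻¹ * y u) (hyZ _ hu) (by group)
  haveI : Fact q.Prime := ⟨hq⟩
  have hmod := fin_card_modEq y q hyq hy1
  obtain ⟨c, hc⟩ := IsPGroup.iff_card.1 (hP.to_subgroup (Subgroup.center P))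
  obtain ⟨b, hb⟩ := IsPGroup.iff_card.1 (hP.to_subgroup (fin_fix y))
  have hPcard : Nat.card P = p ^ (c + 2) := by
    rw [← Subgroup.card_mul_index (Subgroup.center P), hc, hidx, ← pow_add]
  have hZF : Subgroup.center P ≤ fin_fix y := fun z hz => hyZ z hz
  have hFtop : fin_fix y ≠ ⊤ := by
    intro h
    apply hy1
    ext u
    have h1 : u ∈ fin_fix y := by rw [h]; exact Subgroup.mem_top u
    exact h1
  have hcb : c ≤ b := by
    have h1 := Subgroup.card_dvd_of_le hZF
    rw [hc, hb] at h1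
    exact (Nat.pow_dvd_pow_iff_le_right hp.one_lt).1 h1
  have hb2 : b < c + 2 := by
    by_contra hge
    push Not at hge
    apply hFtop
    apply (Subgroup.card_eq_iff_eq_top (fin_fix y)).1
    apply le_antisymm (Subgroup.card_le_card_group _)
    rw [hb, hPcard]
    exact Nat.pow_le_pow_right hp.pos hge
  have hdvd : q ∣ p ^ (c + 2) - p ^ b := by
    rw [hPcard, hb] at hmod
    exact (Nat.modEq_iff_dvd' (Nat.pow_le_pow_right hp.pos hb2.le)).1 hmod.symm
  have hfac : p ^ (c + 2) - p ^ b = p ^ b * (p ^ (c + 2 - b) - 1) := by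
    rw [Nat.mul_sub, mul_one, ← pow_add]
    congr 2
    omega
  have hq_p : ¬ q ∣ p := fun h => hqp ((Nat.prime_dvd_prime_iff_eq hq hp).1 h)
  have hdvd2 : q ∣ p ^ (c + 2 - b) - 1 := by
    rw [hfac] at hdvd
    rcases (Nat.Prime.dvd_mul hq).1 hdvd with h | h
    · exact absurd (hq.dvd_of_dvd_pow h) hq_p
    · exact h
  have hk : c + 2 - b = 1 ∨ c + 2 - b = 2 := by omega
  rcases hp23 with rfl | rfl
  · -- p = 2
    rcases hk with hk | hk
    · rw [hk] at hdvd2
      have h1 : q = 1 := Nat.dvd_one.1 (by simpa using hdvd2)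
      exact hq.one_lt.ne' h1
    · rw [hk] at hdvd2
      have h3 : q = 3 := (Nat.prime_dvd_prime_iff_eq hq Nat.prime_three).1 (by simpa using hdvd2)
      subst h3
      have hbc : b = c := by omega
      have hFZeq : Subgroup.center P = fin_fix y := by
        apply Subgroup.eq_of_le_of_card_ge hZF
        rw [hb, hc, hbc]
      have hFZ : ∀ u : P, y u = u → u ∈ Subgroup.center P := by
        intro u hu
        rw [hFZeq]
        exact hu
      exact fin_two y hyq hcomm hpow hse hZtop hyZ hKey hFZ R Z1 hZR hRidx hZ1 hZ1ne hRpow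
  · -- p = 3
    have h2 : q = 2 := by
      rcases hk with hk | hk
      · rw [hk] at hdvd2
        exact (Nat.prime_dvd_prime_iff_eq hq Nat.prime_two).1 (by simpa using hdvd2)
      · rw [hk] at hdvd2
        have h8 : q ∣ 2 ^ 3 := by simpa using hdvd2
        exact (Nat.prime_dvd_prime_iff_eq hq Nat.prime_two).1 (hq.dvd_of_dvd_pow h8)
    subst h2
    exact fin_three y hyq hy1 hpow hKey hK

end Cfsg.Agent.Lib.Helper29.SC
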