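import Mathlib
import Cfsg.Agent.Lib.Helper72.SCDefs

/-!
# S4394 project SC, piece PAIR

For a semi-extraspecial pair `(Q, Z)` and `Z ≤ R ≤ Q` with `[R, R] ≤ Z1 < Z` one has
`|R : Z| ≤ |Q : R|`.  Proof by double counting the pairs `(u, v) ∈ R × Q` with
`⁅u, v⁆ ∈ Z1`.
-/

set_option autoImplicit false

namespace Cfsg.Agent.Lib.Helper29.SC

open Cfsg.Agent.Lib.Helper72.SC
open scoped commutatorElement

universe u

theorem pair_card_le {A B : Type*} [Group A] [Group B] [Finite A] [Finite B] (f : A →* B)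
    (K : Subgroup B) : Nat.card A ≤ Nat.card ↥(K.comap f) * K.index := by
  rw [← Subgroup.card_mul_index (K.comap f), Subgroup.index_comap]
  apply Nat.mul_le_mul_left
  have h := Subgroup.relIndex_le_of_le_right (H := K) (le_top : f.range ≤ ⊤)
    (by rw [Subgroup.relIndex_top_right]; exact Subgroup.index_ne_zero_of_finite)
  rwa [Subgroup.relIndex_top_right] at h

theorem pair_card_eq {A B : Type*} [Group A] [Group B] [Finite A] (f : A →* B)
    (hf : Function.Surjective f) (K : Subgroup B) :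
    Nat.card ↥(K.comap f) * K.index = Nat.card A := by
  rw [← Subgroup.index_comap_of_surjective K hf, Subgroup.card_mul_index]

/-- `v ↦ ⁅u, v⁆` as a homomorphism `Q →* Z`. -/
def pair_hom {G : Type*} [Group G] (Q Z : Subgroup G)
    (hcen : ∀ z ∈ Z, ∀ u ∈ Q, u * z = z * u) (hcomm : ∀ u ∈ Q, ∀ v ∈ Q, ⁅u, v⁆ ∈ Z)
    (u : G) (hu : u ∈ Q) : ↥Q →* ↥Z :=
  MonoidHom.mk' (fun v => ⟨⁅u, (v : G)⁆, hcomm u hu v v.2⟩) (by
    intro v w
    apply Subtype.ext
    show ⁅u, ((v * w : ↥Q) : G)⁆ = ⁅u, (v : G)⁆ * ⁅u, (w : G)⁆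
    have h1 := hcen _ (hcomm u hu w w.2) v v.2
    rw [Subgroup.coe_mul]
    rw [commutatorElement_def] at h1
    rw [commutatorElement_def, commutatorElement_def, commutatorElement_def]
    calc u * ((v : G) * (w : G)) * u⁻¹ * ((v : G) * (w : G))⁻¹
        = u * (v : G) * u⁻¹ * (v : G)⁻¹ * ((v : G) * (u * (w : G) * u⁻¹ * (w : G)⁻¹))
            * (v : G)⁻¹ := by group
      _ = u * (v : G) * u⁻¹ * (v : G)⁻¹ * ((u * (w : G) * u⁻¹ * (w : G)⁻¹) * (v : G))
            * (v : G)⁻¹ := by rw [h1]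
      _ = u * (v : G) * u⁻¹ * (v : G)⁻¹ * (u * (w : G) * u⁻¹ * (w : G)⁻¹) := by group)

theorem pair_hom_coe {G : Type*} [Group G] (Q Z : Subgroup G)
    (hcen : ∀ z ∈ Z, ∀ u ∈ Q, u * z = z * u) (hcomm : ∀ u ∈ Q, ∀ v ∈ Q, ⁅u, v⁆ ∈ Z)
    (u : G) (hu : u ∈ Q) (v : ↥Q) :
    ((pair_hom Q Z hcen hcomm u hu v : ↥Z) : G) = ⁅u, (v : G)⁆ := rfl

/-- arithmetic core of the double count -/
theorem pair_arith (m N r k z A' B' : ℕ) (hm : 2 ≤ m) (hA : z + A' = r) (hB : r + B' = k)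
    (hrow : m * N ≤ z * (m * k) + A' * k) (hcol : r * (m * r) + B' * r ≤ m * N) :
    r * r ≤ z * k := by
  have h : r * (m * r) + B' * r ≤ z * (m * k) + A' * k := le_trans hcol hrow
  zify at h hA hB hm ⊢
  have e1 : (A' : ℤ) = r - z := by linarith
  have e2 : (B' : ℤ) = k - r := by linarith
  rw [e1, e2] at h
  have key : ((m : ℤ) - 1) * ((r : ℤ) * r) ≤ ((m : ℤ) - 1) * ((z : ℤ) * k) := by
    nlinarith [h]
  exact le_of_mul_le_mul_left key (by linarith)

/-- SC-PAIR -/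
theorem pair : PairStmt.{u} := by
  intro G _ _ p _ Q Z R Z1 hQ hSE hZR hRQ hZ1Z hZ1ne hRR
  classical
  obtain ⟨hZQ, hcen, hcomm, hpow, hsurj⟩ := hSE
  haveI := Fintype.ofFinite ↥R
  haveI := Fintype.ofFinite ↥Q
  obtain ⟨K, hK⟩ : ∃ K : Subgroup ↥Z, K = Z1.subgroupOf Z := ⟨_, rfl⟩
  obtain ⟨m, hm⟩ : ∃ m : ℕ, m = K.index := ⟨_, rfl⟩
  have hm2 : 2 ≤ m := by
    have h0 : m ≠ 0 := by rw [hm]; exact Subgroup.index_ne_zero_of_finite
    have h1 : m ≠ 1 := by
      intro h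
      rw [hm, Subgroup.index_eq_one, hK, Subgroup.subgroupOf_eq_top] at h
      exact hZ1ne (le_antisymm hZ1Z h)
    omega
  -- row and column counts
  have ha1 : ∀ u : ↥R, (u : G) ∉ Z →
      m * Nat.card {v : ↥Q // ⁅(u : G), (v : G)⁆ ∈ Z1} = Nat.card ↥Q := by
    intro u hu
    have hsur : Function.Surjective (pair_hom Q Z hcen hcomm (u : G) (hRQ u.2)) := by
      intro z
      obtain ⟨v, hv, hvz⟩ := hsurj u (hRQ u.2) hu z z.2
      exact ⟨⟨v, hv⟩, Subtype.ext hvz⟩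
    have h := pair_card_eq (pair_hom Q Z hcen hcomm (u : G) (hRQ u.2)) hsur K
    have e : Nat.card {v : ↥Q // ⁅(u : G), (v : G)⁆ ∈ Z1}
        = Nat.card ↥(K.comap (pair_hom Q Z hcen hcomm (u : G) (hRQ u.2))) := by
      apply Nat.card_congr
      apply Equiv.subtypeEquivRight
      intro v
      rw [Subgroup.mem_comap, hK, Subgroup.mem_subgroupOf, pair_hom_coe]
    rw [e, hm, mul_comm]
    exact h
  have ha2 : ∀ u : ↥R, Nat.card {v : ↥Q // ⁅(u : G), (v : G)⁆ ∈ Z1} ≤ Nat.card ↥Q :=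
    fun u => Nat.card_le_card_of_injective _ Subtype.val_injective
  have hb1 : ∀ v : ↥Q, Nat.card ↥R ≤ m * Nat.card {u : ↥R // ⁅(u : G), (v : G)⁆ ∈ Z1} := by
    intro v
    have h := pair_card_le
      ((pair_hom Q Z hcen hcomm (v : G) v.2).comp (Subgroup.inclusion hRQ)) K
    have e : Nat.card {u : ↥R // ⁅(u : G), (v : G)⁆ ∈ Z1}
        = Nat.card ↥(K.comap
            ((pair_hom Q Z hcen hcomm (v : G) v.2).comp (Subgroup.inclusion hRQ))) := by
      apply Nat.card_congr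
      apply Equiv.subtypeEquivRight
      intro u
      rw [Subgroup.mem_comap, hK, Subgroup.mem_subgroupOf, MonoidHom.comp_apply, pair_hom_coe,
        Subgroup.coe_inclusion, ← commutatorElement_inv, inv_mem_iff]
    rw [e, hm, mul_comm]
    exact h
  have hb2 : ∀ v : ↥Q, (v : G) ∈ R →
      Nat.card {u : ↥R // ⁅(u : G), (v : G)⁆ ∈ Z1} = Nat.card ↥R := by
    intro v hv
    exact Nat.card_congr (Equiv.subtypeUnivEquiv (fun u => hRR u u.2 v hv))
  -- the two expressions for the number of pairs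
  have hN1 : Nat.card {x : ↥R × ↥Q // ⁅(x.1 : G), (x.2 : G)⁆ ∈ Z1}
      = ∑ u : ↥R, Nat.card {v : ↥Q // ⁅(u : G), (v : G)⁆ ∈ Z1} := by
    rw [Nat.card_congr (Equiv.subtypeProdEquivSigmaSubtype
      (fun (u : ↥R) (v : ↥Q) => ⁅(u : G), (v : G)⁆ ∈ Z1)), Nat.card_sigma]
  have hN2 : Nat.card {x : ↥R × ↥Q // ⁅(x.1 : G), (x.2 : G)⁆ ∈ Z1}
      = ∑ v : ↥Q, Nat.card {u : ↥R // ⁅(u : G), (v : G)⁆ ∈ Z1} := by
    rw [Nat.card_congr (((Equiv.prodComm ↥R ↥Q).subtypeEquiv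
      (p := fun x => ⁅(x.1 : G), (x.2 : G)⁆ ∈ Z1)
      (q := fun x : ↥Q × ↥R => ⁅(x.2 : G), (x.1 : G)⁆ ∈ Z1) (fun x => Iff.rfl)).trans
      (Equiv.subtypeProdEquivSigmaSubtype
        (fun (v : ↥Q) (u : ↥R) => ⁅(u : G), (v : G)⁆ ∈ Z1))), Nat.card_sigma]
  -- filter cardinalities
  have hcZ : (Finset.univ.filter (fun u : ↥R => (u : G) ∈ Z)).card = Nat.card ↥Z := by
    rw [← Fintype.card_subtype, ← Nat.card_eq_fintype_card]
    exact Nat.card_congr (Subgroup.subgroupOfEquivOfLe hZR).toEquiv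
  have hcR : (Finset.univ.filter (fun v : ↥Q => (v : G) ∈ R)).card = Nat.card ↥R := by
    rw [← Fintype.card_subtype, ← Nat.card_eq_fintype_card]
    exact Nat.card_congr (Subgroup.subgroupOfEquivOfLe hRQ).toEquiv
  have hA := Finset.card_filter_add_card_filter_not (s := (Finset.univ : Finset ↥R))
    (fun u : ↥R => (u : G) ∈ Z)
  have hB := Finset.card_filter_add_card_filter_not (s := (Finset.univ : Finset ↥Q))
    (fun v : ↥Q => (v : G) ∈ R)
  rw [hcZ, Finset.card_univ, ← Nat.card_eq_fintype_card] at hA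
  rw [hcR, Finset.card_univ, ← Nat.card_eq_fintype_card] at hB
  have hrow : m * Nat.card {x : ↥R × ↥Q // ⁅(x.1 : G), (x.2 : G)⁆ ∈ Z1}
      ≤ Nat.card ↥Z * (m * Nat.card ↥Q)
        + (Finset.univ.filter (fun u : ↥R => ¬ (u : G) ∈ Z)).card * Nat.card ↥Q := by
    rw [hN1, Finset.mul_sum,
      ← Finset.sum_filter_add_sum_filter_not Finset.univ (fun u : ↥R => (u : G) ∈ Z)]
    apply add_le_add
    · have h1 := Finset.sum_le_card_nsmul (Finset.univ.filter (fun u : ↥R => (u : G) ∈ Z))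
        (fun u : ↥R => m * Nat.card {v : ↥Q // ⁅(u : G), (v : G)⁆ ∈ Z1}) (m * Nat.card ↥Q)
        (fun u _ => Nat.mul_le_mul_left m (ha2 u))
      rw [hcZ, smul_eq_mul] at h1
      exact h1
    · have h1 := Finset.sum_le_card_nsmul
        (Finset.univ.filter (fun u : ↥R => ¬ (u : G) ∈ Z))
        (fun u : ↥R => m * Nat.card {v : ↥Q // ⁅(u : G), (v : G)⁆ ∈ Z1}) (Nat.card ↥Q)
        (fun u hu => (ha1 u (Finset.mem_filter.1 hu).2).le)
      rw [smul_eq_mul] at h1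
      exact h1
  have hcol : Nat.card ↥R * (m * Nat.card ↥R)
        + (Finset.univ.filter (fun v : ↥Q => ¬ (v : G) ∈ R)).card * Nat.card ↥R
      ≤ m * Nat.card {x : ↥R × ↥Q // ⁅(x.1 : G), (x.2 : G)⁆ ∈ Z1} := by
    rw [hN2, Finset.mul_sum,
      ← Finset.sum_filter_add_sum_filter_not Finset.univ (fun v : ↥Q => (v : G) ∈ R)]
    apply add_le_add
    · have h1 := Finset.card_nsmul_le_sum (Finset.univ.filter (fun v : ↥Q => (v : G) ∈ R))
        (fun v : ↥Q => m * Nat.card {u : ↥R // ⁅(u : G), (v : G)⁆ ∈ Z1}) (m * Nat.card ↥R)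
        (fun v hv => by rw [hb2 v (Finset.mem_filter.1 hv).2])
      rw [hcR, smul_eq_mul] at h1
      exact h1
    · have h1 := Finset.card_nsmul_le_sum
        (Finset.univ.filter (fun v : ↥Q => ¬ (v : G) ∈ R))
        (fun v : ↥Q => m * Nat.card {u : ↥R // ⁅(u : G), (v : G)⁆ ∈ Z1}) (Nat.card ↥R)
        (fun v _ => hb1 v)
      rw [smul_eq_mul] at h1
      exact h1
  have hmain : Nat.card ↥R * Nat.card ↥R ≤ Nat.card ↥Z * Nat.card ↥Q :=
    pair_arith m _ _ _ _ _ _ hm2 hA hB hrow hcol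
  -- conclusion
  have h1 : Nat.card ↥Z * Z.relIndex R = Nat.card ↥R := by
    have h := Subgroup.card_mul_index (Z.subgroupOf R)
    rw [Nat.card_congr (Subgroup.subgroupOfEquivOfLe hZR).toEquiv] at h
    exact h
  have h2 : Nat.card ↥R * R.relIndex Q = Nat.card ↥Q := by
    have h := Subgroup.card_mul_index (R.subgroupOf Q)
    rw [Nat.card_congr (Subgroup.subgroupOfEquivOfLe hRQ).toEquiv] at h
    exact h
  have hzpos : 0 < Nat.card ↥Z := Nat.card_pos
  have hrpos : 0 < Nat.card ↥R := Nat.card_pos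
  have h3 : Nat.card ↥Z * Nat.card ↥R * Z.relIndex R
      ≤ Nat.card ↥Z * Nat.card ↥R * R.relIndex Q := by
    calc Nat.card ↥Z * Nat.card ↥R * Z.relIndex R
        = Nat.card ↥R * (Nat.card ↥Z * Z.relIndex R) := by ring
      _ = Nat.card ↥R * Nat.card ↥R := by rw [h1]
      _ ≤ Nat.card ↥Z * Nat.card ↥Q := hmain
      _ = Nat.card ↥Z * (Nat.card ↥R * R.relIndex Q) := by rw [h2]
      _ = Nat.card ↥Z * Nat.card ↥R * R.relIndex Q := by ring
  exact Nat.le_of_mul_le_mul_left h3 (Nat.mul_pos hzpos hrpos)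

end Cfsg.Agent.Lib.Helper29.SC
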