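import Mathlib
import Cfsg.Prelude.Def_GeometricClasses
import Cfsg.Agent.Lib.Helper71.Asch0
import Cfsg.Agent.Lib.Helper71.Asch8
import Cfsg.Agent.Lib.Helper1.SP8EADefs
import Cfsg.Agent.Lib.Helper94.TIFT1c

/-!
# SP8-EA (S5823, architect helper1), piece EA4b (helper29)

`A ⊗ (U ⊗ V)` and `A ⊗ ((U ⊗ V) swap)` lie in the standard tensor wreath group.
-/

set_option autoImplicit false

namespace Cfsg.Agent.Lib.Helper29.SP8EA4b

open Matrix Cfsg.Geo Cfsg.Agent.Lib.Helper71.Asch Cfsg.Agent.Lib.Helper1.SP8EADefs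
open scoped Kronecker

variable {n : ℕ} {F : Type*} [Field F] [Fintype F]

theorem ea4b_mul_perm {k : ℕ} (σ : Equiv.Perm (Fin k))
    (N Pm : Matrix (Fin k → Fin 2) (Fin k → Fin 2) F)
    (hP : ∀ v y, Pm v y = if y = v ∘ σ then 1 else 0) (x y : Fin k → Fin 2) :
    (N * Pm) x y = N x (y ∘ σ.symm) := by
  rw [Matrix.mul_apply, Finset.sum_eq_single (y ∘ σ.symm)]
  · rw [hP, if_pos, mul_one]
    funext i
    simp
  · intro v _ hv
    rw [hP, if_neg, mul_zero]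
    intro h
    apply hv
    rw [h]
    funext i
    simp
  · intro h; exact absurd (Finset.mem_univ _) h

theorem ea4b_lift_pt (a U V : Matrix (Fin 2) (Fin 2) F) :
    lift3 a (pt ![U, V]) = pt ![a, U, V] := by
  ext x y
  show a (x 0) (y 0) * pt ![U, V] ![x 1, x 2] ![y 1, y 2] = pt ![a, U, V] x y
  rw [pt_apply, pt_apply, Fin.prod_univ_two, Fin.prod_univ_three]
  show a (x 0) (y 0) * (U (x 1) (y 1) * V (x 2) (y 2)) =
    a (x 0) (y 0) * U (x 1) (y 1) * V (x 2) (y 2)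
  rw [mul_assoc]

theorem ea4b_lift_swap (a U V : Matrix (Fin 2) (Fin 2) F) :
    lift3 a (pt ![U, V] * swapM) =
      pt ![a, U, V] * (Cfsg.Agent.Lib.Helper94.TIFT1c.permM 2 (Equiv.swap (1 : Fin 3) 2)) := by
  ext x y
  have hL : (pt ![U, V] * swapM : Matrix (Fin 2 → Fin 2) (Fin 2 → Fin 2) F) ![x 1, x 2] ![y 1, y 2] =
      pt ![U, V] ![x 1, x 2] (![y 1, y 2] ∘ (Equiv.swap (0 : Fin 2) 1).symm) :=
    ea4b_mul_perm (Equiv.swap (0 : Fin 2) 1) _ _ (fun _ _ => rfl) _ _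
  have hR : (pt ![a, U, V] *
      (Cfsg.Agent.Lib.Helper94.TIFT1c.permM 2 (Equiv.swap (1 : Fin 3) 2)) :
        Matrix (Fin 3 → Fin 2) (Fin 3 → Fin 2) F) x y =
      pt ![a, U, V] x (y ∘ (Equiv.swap (1 : Fin 3) 2).symm) :=
    ea4b_mul_perm (Equiv.swap (1 : Fin 3) 2) _ _ (fun _ _ => rfl) _ _
  have s0 : (Equiv.swap (0 : Fin 2) 1).symm 0 = 1 := by decide
  have s1 : (Equiv.swap (0 : Fin 2) 1).symm 1 = 0 := by decide
  have t0 : (Equiv.swap (1 : Fin 3) 2).symm 0 = 0 := by decide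
  have t1 : (Equiv.swap (1 : Fin 3) 2).symm 1 = 2 := by decide
  have t2 : (Equiv.swap (1 : Fin 3) 2).symm 2 = 1 := by decide
  show a (x 0) (y 0) *
    (pt ![U, V] * swapM : Matrix (Fin 2 → Fin 2) (Fin 2 → Fin 2) F) ![x 1, x 2] ![y 1, y 2] = _
  rw [hL, hR, pt_apply, pt_apply, Fin.prod_univ_two, Fin.prod_univ_three]
  simp only [Function.comp_apply, s0, s1, t0, t1, t2]
  show a (x 0) (y 0) * (U (x 1) (y 2) * V (x 2) (y 1)) =
    a (x 0) (y 0) * U (x 1) (y 2) * V (x 2) (y 1)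
  rw [mul_assoc]

theorem ea4b_pure (gs : Fin 3 → GL (Fin 2) F) :
    ∃ t : GL (Fin 3 → Fin 2) F, t ∈ tensorWreathStandard 2 3 F ∧
      t.1 = pt (fun i => (gs i).1) := by
  have h1 : pt (fun i => (gs i).1) * pt (fun i => ((gs i)⁻¹ : GL (Fin 2) F).1) = 1 := by
    rw [pt_mul]
    have h : (fun i => (gs i).1 * ((gs i)⁻¹ : GL (Fin 2) F).1) =
        fun _ => (1 : Matrix (Fin 2) (Fin 2) F) := by
      funext i
      rw [← Units.val_mul, mul_inv_cancel, Units.val_one]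
    rw [h, pt_one]
  have h2 : pt (fun i => ((gs i)⁻¹ : GL (Fin 2) F).1) * pt (fun i => (gs i).1) = 1 := by
    rw [pt_mul]
    have h : (fun i => ((gs i)⁻¹ : GL (Fin 2) F).1 * (gs i).1) =
        fun _ => (1 : Matrix (Fin 2) (Fin 2) F) := by
      funext i
      rw [← Units.val_mul, inv_mul_cancel, Units.val_one]
    rw [h, pt_one]
  refine ⟨⟨pt (fun i => (gs i).1), pt (fun i => ((gs i)⁻¹ : GL (Fin 2) F).1), h1, h2⟩, ?_, rfl⟩
  apply Subgroup.subset_closure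
  left
  exact ⟨gs, fun x y => rfl⟩

/-- EA4b: `A ⊗ (U ⊗ V)` and `A ⊗ ((U ⊗ V) swap)` lie in the standard tensor wreath group. -/
theorem EA4b (A : GL (Fin 2) F) (U V : Matrix (Fin 2) (Fin 2) F) (hU : U.det ≠ 0) (hV : V.det ≠ 0)
    (M : Matrix (Fin 2 → Fin 2) (Fin 2 → Fin 2) F)
    (hM : M = pt ![U, V] ∨ M = pt ![U, V] * swapM) :
    ∃ g : GL (Fin 3 → Fin 2) F, g ∈ tensorWreathStandard 2 3 F ∧ g.1 = lift3 A.1 M := by
  let Ug : GL (Fin 2) F := ⟨U, U⁻¹, Matrix.mul_nonsing_inv U (isUnit_iff_ne_zero.mpr hU),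
    Matrix.nonsing_inv_mul U (isUnit_iff_ne_zero.mpr hU)⟩
  let Vg : GL (Fin 2) F := ⟨V, V⁻¹, Matrix.mul_nonsing_inv V (isUnit_iff_ne_zero.mpr hV),
    Matrix.nonsing_inv_mul V (isUnit_iff_ne_zero.mpr hV)⟩
  obtain ⟨t, ht, ht1⟩ := ea4b_pure (![A, Ug, Vg] : Fin 3 → GL (Fin 2) F)
  have hcs : (fun i => ((![A, Ug, Vg] : Fin 3 → GL (Fin 2) F) i).1) = ![A.1, U, V] := by
    funext i
    fin_cases i <;> rfl
  rw [hcs] at ht1
  rcases hM with rfl | rfl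
  · exact ⟨t, ht, by rw [ht1, ea4b_lift_pt]⟩
  · obtain ⟨π, hπ1, hπ2, -⟩ := Cfsg.Agent.Lib.Helper94.TIFT1c.T1c_perm_conj (F := F) (m := 2)
      (Equiv.swap (1 : Fin 3) 2)
    refine ⟨t * π, Subgroup.mul_mem _ ht (Subgroup.subset_closure (Or.inr hπ2)), ?_⟩
    rw [Units.val_mul, ht1, hπ1, ea4b_lift_swap]

end Cfsg.Agent.Lib.Helper29.SP8EA4b
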