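import Mathlib
import Cfsg.Prelude.Def_GeometricClasses
import Cfsg.Agent.Lib.Helper97.Transv
import Cfsg.Agent.Lib.Helper97.TransvM
import Cfsg.Agent.Lib.Helper71.TP0
import Cfsg.Agent.Lib.Helper71.TP1
import Cfsg.Agent.Lib.Helper97.TPG1

/-! S5637 piece G2: some `x ∈ M ∖ N` fixes a pure tensor. -/

set_option autoImplicit false

namespace Cfsg.Agent.Lib.Helper29.TPG2

open Matrix Cfsg.Agent.Lib.Helper71.TP Cfsg.Agent.Lib.Helper97
open Cfsg.Agent.Lib.Helper97.TPG1 (conj_root_not_mem)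
open scoped Kronecker

variable {a b : ℕ} {F : Type*} [Field F]

/-- a linear map from a space of larger dimension has a nonzero kernel vector -/
theorem exists_ker_ne_zero {n m : ℕ} (hnm : m < n) (L : (Fin n → F) →ₗ[F] (Fin m → F)) :
    ∃ x : Fin n → F, x ≠ 0 ∧ L x = 0 := by
  have h1 : LinearMap.ker L ≠ ⊥ := by
    apply LinearMap.ker_ne_bot_of_finrank_lt
    rw [Module.finrank_fin_fun, Module.finrank_fin_fun]
    exact hnm
  obtain ⟨x, hx, hx0⟩ := (Submodule.ne_bot_iff _).mp h1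
  exact ⟨x, hx0, LinearMap.mem_ker.mp hx⟩

/-- G2 -/
theorem exists_fix_pt (ha : 1 ≤ a) (hab : a < b) (hb : 3 ≤ b)
    (M : Subgroup (GL (Fin a × Fin b) F)) (hNM : NN a b F ≤ M)
    (hM : M ≤ Cfsg.Geo.specialLinear (Fin a × Fin b) F) (hD : HD M)
    (g : GL (Fin a × Fin b) F) (hg : g ∈ M) (hgN : g ∉ NN a b F) :
    ∃ x ∈ M, x ∉ NN a b F ∧ ∃ (u : Fin a → F) (w : Fin b → F), u ≠ 0 ∧ w ≠ 0 ∧
      act x (pt u w) = pt u w := by
  classical
  set u : Fin a → F := Pi.single (⟨0, by omega⟩ : Fin a) 1 with hu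
  set w : Fin b → F := Pi.single (⟨0, by omega⟩ : Fin b) 1 with hw
  have hu0 : u ≠ 0 := by
    intro h
    have := congrFun h (⟨0, by omega⟩ : Fin a)
    simp [hu] at this
  have hw0 : w ≠ 0 := by
    intro h
    have := congrFun h (⟨0, by omega⟩ : Fin b)
    simp [hw] at this
  set v' : Fin a × Fin b → F := act g⁻¹ (pt u w) with hv'
  -- a functional killing `v'`
  let L : (Fin b → F) →ₗ[F] (Fin a → F) :=
    { toFun := fun ψ => ctr ψ v'
      map_add' := fun ψ ψ' => ctr_add_left ψ ψ' v'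
      map_smul' := fun c ψ => ctr_smul_left c ψ v' }
  obtain ⟨ψ₁, hψ₁, hLψ⟩ := exists_ker_ne_zero hab L
  have hctr : ctr ψ₁ v' = 0 := hLψ
  -- a vector killed by `ψ₁`
  let L2 : (Fin b → F) →ₗ[F] (Fin 1 → F) :=
    { toFun := fun w' => fun _ => ψ₁ ⬝ᵥ w'
      map_add' := fun x y => by funext i; simp [dotProduct_add]
      map_smul' := fun c x => by funext i; simp [dotProduct_smul] }
  obtain ⟨w₁, hw₁, hLw⟩ := exists_ker_ne_zero (show 1 < b by omega) L2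
  have hdot : ψ₁ ⬝ᵥ w₁ = 0 := congrFun hLw 0
  refine ⟨g * rootG w₁ ψ₁ hdot * g⁻¹, ?_, ?_, u, w, hu0, hw0, ?_⟩
  · exact M.mul_mem (M.mul_mem hg (hNM (rootG_mem_NN w₁ ψ₁ hdot))) (M.inv_mem hg)
  · exact conj_root_not_mem ha hab hb M hNM hM hD g hg hgN w₁ ψ₁ hw₁ hψ₁ hdot
  · rw [act_mul, act_mul, act_rootG, ← hv', hctr, pt_zero_left, add_zero, hv', act_act_inv]

end Cfsg.Agent.Lib.Helper29.TPG2
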