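import Mathlib
import Cfsg.Agent.Lib.Helper17.WrDefs

/-!
# S3787, piece GRP: from a `WrConfig` to the wreath-like section `M⟨x⟩ / R`.
-/

set_option autoImplicit false

namespace Cfsg.Agent.Lib.Helper29

open Cfsg Cfsg.Agent.Lib.Helper17

universe u v

/-- In a finite group, an element conjugating a subgroup into itself normalizes it. -/
theorem grp_mem_normalizer {Y : Type u} [Group Y] [Finite Y] (S : Subgroup Y) (x : Y)
    (h : ∀ m ∈ S, x * m * x⁻¹ ∈ S) : x ∈ Subgroup.normalizer (S : Set Y) := by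
  rw [Subgroup.mem_normalizer_iff]
  intro m
  refine ⟨h m, fun hm => ?_⟩
  let c : S → S := fun s => ⟨x * s * x⁻¹, h s s.2⟩
  have hinj : Function.Injective c := by
    intro a b hab
    have h1 : x * (a : Y) * x⁻¹ = x * (b : Y) * x⁻¹ := congrArg Subtype.val hab
    exact Subtype.ext (mul_left_cancel (mul_right_cancel h1))
  obtain ⟨s, hs⟩ := (Finite.injective_iff_surjective.mp hinj) ⟨x * m * x⁻¹, hm⟩
  have h1 : x * (s : Y) * x⁻¹ = x * m * x⁻¹ := congrArg Subtype.val hs
  have h2 : (s : Y) = m := mul_left_cancel (mul_right_cancel h1)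
  rw [← h2]; exact s.2

/-- The preimage of a subgroup under a surjective homomorphism has order `|H| * |ker|`. -/
theorem grp_card_comap {A Q : Type*} [Group A] [Finite A] [Group Q] (π : A →* Q)
    (hπ : Function.Surjective π) (H : Subgroup Q) :
    Nat.card (H.comap π) = Nat.card H * Nat.card π.ker := by
  haveI : Finite Q := Finite.of_surjective π hπ
  have h1 : (H.comap π).index = H.index := Subgroup.index_comap_of_surjective H hπ
  have h2 := Subgroup.card_mul_index (H.comap π)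
  have h3 := Subgroup.card_mul_index H
  have h4 := Subgroup.card_mul_index π.ker
  have h5 : π.ker.index = Nat.card Q := by
    rw [Subgroup.index_ker, MonoidHom.range_eq_top.mpr hπ, Subgroup.card_top]
  have hpos : 0 < H.index := Nat.pos_of_ne_zero Subgroup.index_ne_zero_of_finite
  apply Nat.eq_of_mul_eq_mul_right hpos
  rw [h1] at h2
  rw [h2, ← h4, h5, ← h3]
  ring

/-- A group generated by a normal subgroup `B` and an element `t ∉ B` with `t ^ p = 1` has order
`p * |B|`. -/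
theorem grp_card_of_sup {Q : Type*} [Group Q] [Finite Q] (p : ℕ) [Fact p.Prime]
    (B : Subgroup Q) [B.Normal] (t : Q) (hsup : B ⊔ Subgroup.zpowers t = ⊤) (htp : t ^ p = 1)
    (htB : t ∉ B) : Nat.card Q = p * Nat.card B := by
  set tb : Q ⧸ B := QuotientGroup.mk' B t with htb
  have h1 : tb ^ p = 1 := by rw [htb, ← map_pow, htp, map_one]
  have h2 : tb ≠ 1 := by
    rw [htb]; intro h; exact htB ((QuotientGroup.eq_one_iff t).mp h)
  have h3 : orderOf tb = p := orderOf_eq_prime h1 h2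
  have h4 : Subgroup.zpowers tb = ⊤ := by
    have h5 : B ⊔ Subgroup.zpowers t ≤ (Subgroup.zpowers tb).comap (QuotientGroup.mk' B) := by
      refine sup_le ?_ ?_
      · intro b hb
        rw [Subgroup.mem_comap]
        have h6 : QuotientGroup.mk' B b = 1 := (QuotientGroup.eq_one_iff b).mpr hb
        rw [h6]
        exact one_mem _
      · rw [Subgroup.zpowers_le, Subgroup.mem_comap]; exact Subgroup.mem_zpowers tb
    rw [eq_top_iff]
    intro y _
    obtain ⟨g, rfl⟩ := QuotientGroup.mk'_surjective B y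
    exact h5 (by rw [hsup]; exact Subgroup.mem_top g)
  have h6 : Nat.card (Q ⧸ B) = p := by
    rw [← h3, ← Nat.card_zpowers, h4, Subgroup.card_top]
  rw [Subgroup.card_eq_card_quotient_mul_card_subgroup B, h6]

/-- **S3787, piece GRP.** -/
theorem s3787_grp {Y : Type u} [Group Y] [Finite Y] (p : ℕ) [Fact p.Prime]
    (M R : Subgroup Y) (x : Y) (h : WrConfig p M R x) :
    ∃ (K : Subgroup Y) (_ : (R.subgroupOf K).Normal)
      (B : Subgroup (↥K ⧸ R.subgroupOf K)) (t : ↥K ⧸ R.subgroupOf K),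
      B.Normal ∧ IsMulCommutative B ∧ (∀ b ∈ B, b ^ p = 1) ∧
      Nat.card B = p ^ p ∧ orderOf t = p ∧ t ∉ B ∧ Nat.card (↥K ⧸ R.subgroupOf K) = p ^ (p + 1) ∧
      Nat.card ↥(B ⊓ Subgroup.centralizer ({t} : Set (↥K ⧸ R.subgroupOf K))) = p := by
  classical
  have hp : p.Prime := Fact.out
  obtain ⟨hRM, hMR, hxM, hxR, hxp, hcomm, hpow, hcardM, hcardF⟩ := h
  -- normalizers
  have hxNM : x ∈ Subgroup.normalizer (M : Set Y) := grp_mem_normalizer M x hxM
  have hxNR : x ∈ Subgroup.normalizer (R : Set Y) := grp_mem_normalizer R x hxR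
  have hMNR : M ≤ Subgroup.normalizer (R : Set Y) := fun m hm =>
    grp_mem_normalizer R m (hMR m hm)
  set K : Subgroup Y := M ⊔ Subgroup.zpowers x with hK
  have hMK : M ≤ K := le_sup_left
  have hRK : R ≤ K := hRM.trans hMK
  have hxK : x ∈ K := (le_sup_right : Subgroup.zpowers x ≤ K) (Subgroup.mem_zpowers x)
  have hKNR : K ≤ Subgroup.normalizer (R : Set Y) :=
    sup_le hMNR (Subgroup.zpowers_le.mpr hxNR)
  have hKNM : K ≤ Subgroup.normalizer (M : Set Y) :=
    sup_le Subgroup.le_normalizer (Subgroup.zpowers_le.mpr hxNM)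
  haveI hR'n : (R.subgroupOf K).Normal := Subgroup.normal_subgroupOf_of_le_normalizer hKNR
  haveI hM'n : (M.subgroupOf K).Normal := Subgroup.normal_subgroupOf_of_le_normalizer hKNM
  set R' : Subgroup K := R.subgroupOf K with hR'
  set M' : Subgroup K := M.subgroupOf K with hM'
  set π : K →* K ⧸ R' := QuotientGroup.mk' R' with hπ
  have hπs : Function.Surjective π := QuotientGroup.mk'_surjective R'
  have hker : π.ker = R' := QuotientGroup.ker_mk' R'
  set x' : K := ⟨x, hxK⟩ with hx'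
  set B : Subgroup (K ⧸ R') := M'.map π with hB
  set t : K ⧸ R' := π x' with ht
  have hR'M' : R' ≤ M' := fun k hk => hRM hk
  have hcardR' : Nat.card R' = Nat.card R :=
    Nat.card_congr (Subgroup.subgroupOfEquivOfLe hRK).toEquiv
  have hcardM' : Nat.card M' = Nat.card M :=
    Nat.card_congr (Subgroup.subgroupOfEquivOfLe hMK).toEquiv
  have hRpos : 0 < Nat.card R := Nat.card_pos
  -- comap of B
  have hcomapB : B.comap π = M' := by
    rw [hB, Subgroup.comap_map_eq, hker]
    exact sup_eq_left.mpr hR'M'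
  have hBn : B.Normal := Subgroup.Normal.map hM'n π hπs
  -- card B
  have hcardB : Nat.card B = p ^ p := by
    have h1 := grp_card_comap π hπs B
    rw [hcomapB, hker, hcardM', hcardR', hcardM] at h1
    exact (Nat.eq_of_mul_eq_mul_right hRpos h1).symm
  -- π on elements
  have hπ1 : ∀ k : K, π k = 1 ↔ (k : Y) ∈ R := fun k => by
    rw [hπ, QuotientGroup.mk'_apply, QuotientGroup.eq_one_iff]; rfl
  -- t ^ p = 1
  have htp : t ^ p = 1 := by
    rw [ht, ← map_pow, hπ1]
    exact hxp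
  -- x ∉ M
  have hxnM : x ∉ M := by
    intro hxM'
    have h1 : Nat.card {m : Y // m ∈ M ∧ x * m * x⁻¹ * m⁻¹ ∈ R} = Nat.card M :=
      Nat.card_congr (Equiv.subtypeEquivRight (fun m =>
        ⟨fun hm => hm.1, fun hm => ⟨hm, hcomm x hxM' m hm⟩⟩))
    rw [hcardF, hcardM] at h1
    have h2 : p ^ 1 = p ^ p := by
      rw [pow_one]; exact Nat.eq_of_mul_eq_mul_right hRpos h1
    have h3 := Nat.pow_right_injective hp.two_le h2
    exact hp.one_lt.ne h3
  have htB : t ∉ B := by
    intro htB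
    obtain ⟨m', hm', hm't⟩ := Subgroup.mem_map.mp htB
    have h1 : π (m'⁻¹ * x') = 1 := by rw [map_mul, map_inv, hm't, ← ht, inv_mul_cancel]
    rw [hπ1] at h1
    have h2 : (m' : Y)⁻¹ * x ∈ M := hRM h1
    have h3 : x = (m' : Y) * ((m' : Y)⁻¹ * x) := by group
    rw [h3] at hxnM
    exact hxnM (mul_mem hm' h2)
  have ht1 : t ≠ 1 := fun h => htB (h ▸ one_mem B)
  have hordt : orderOf t = p := orderOf_eq_prime htp ht1
  -- generation
  have hsupK : M' ⊔ Subgroup.zpowers x' = ⊤ := by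
    apply Subgroup.map_injective K.subtype_injective
    rw [Subgroup.map_sup, hM', Subgroup.subgroupOf_map_subtype, MonoidHom.map_zpowers,
      ← MonoidHom.range_eq_map, Subgroup.range_subtype, inf_of_le_left hMK]
    rfl
  have hsupQ : B ⊔ Subgroup.zpowers t = ⊤ := by
    have h1 := congrArg (Subgroup.map π) hsupK
    rw [Subgroup.map_sup, MonoidHom.map_zpowers, Subgroup.map_top_of_surjective π hπs] at h1
    exact h1
  have hcardQ : Nat.card (K ⧸ R') = p ^ (p + 1) := by
    haveI := hBn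
    rw [grp_card_of_sup p B t hsupQ htp htB, hcardB, pow_succ, mul_comm]
  -- the centralizer count
  have hcomm' : ∀ k : K, (t * π k = π k * t) ↔ (x * (k : Y) * x⁻¹ * (k : Y)⁻¹ ∈ R) := by
    intro k
    have h1 : π (x' * k * x'⁻¹ * k⁻¹) = t * π k * t⁻¹ * (π k)⁻¹ := by
      rw [map_mul, map_mul, map_mul, map_inv, map_inv]
    have h2 : π (x' * k * x'⁻¹ * k⁻¹) = 1 ↔ x * (k : Y) * x⁻¹ * (k : Y)⁻¹ ∈ R := hπ1 _
    rw [← h2, h1]
    constructor
    · intro h3
      rw [h3]; group
    · intro h3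
      exact mul_inv_eq_iff_eq_mul.mp (mul_inv_eq_one.mp h3)
  set C : Subgroup (K ⧸ R') := Subgroup.centralizer ({t} : Set (K ⧸ R')) with hC
  have hmemF : ∀ m : Y, m ∈ ((B ⊓ C).comap π).map K.subtype ↔
      (m ∈ M ∧ x * m * x⁻¹ * m⁻¹ ∈ R) := by
    intro m
    constructor
    · rintro ⟨k, hk, rfl⟩
      have hk' : π k ∈ B ⊓ C := hk
      have hkM : k ∈ M' := by rw [← hcomapB]; exact hk'.1
      refine ⟨hkM, ?_⟩
      have h1 := (Subgroup.mem_centralizer_iff.mp hk'.2) t (Set.mem_singleton t)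
      exact (hcomm' k).mp h1
    · rintro ⟨hmM, hmR⟩
      refine ⟨⟨m, hMK hmM⟩, ?_, rfl⟩
      have h1 : π ⟨m, hMK hmM⟩ ∈ B := Subgroup.mem_map_of_mem π (show (⟨m, hMK hmM⟩ : K) ∈ M' from hmM)
      have h2 : π ⟨m, hMK hmM⟩ ∈ C := by
        rw [hC, Subgroup.mem_centralizer_iff]
        intro y hy
        rw [Set.mem_singleton_iff] at hy
        subst hy
        exact (hcomm' ⟨m, hMK hmM⟩).mpr hmR
      exact ⟨h1, h2⟩
  have hcardBC : Nat.card ↥(B ⊓ C) = p := by
    have h1 : Nat.card {m : Y // m ∈ M ∧ x * m * x⁻¹ * m⁻¹ ∈ R} =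
        Nat.card (((B ⊓ C).comap π).map K.subtype) :=
      Nat.card_congr (Equiv.subtypeEquivRight (fun m => (hmemF m).symm))
    rw [hcardF, Subgroup.card_map_of_injective K.subtype_injective,
      grp_card_comap π hπs (B ⊓ C), hker, hcardR'] at h1
    exact (Nat.eq_of_mul_eq_mul_right hRpos h1).symm
  refine ⟨K, hR'n, B, t, hBn, ?_, ?_, hcardB, hordt, htB, hcardQ, hcardBC⟩
  · refine ⟨⟨fun a b => ?_⟩⟩
    obtain ⟨a, ha⟩ := a
    obtain ⟨b, hb⟩ := b
    obtain ⟨m1, hm1, rfl⟩ := Subgroup.mem_map.mp ha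
    obtain ⟨m2, hm2, rfl⟩ := Subgroup.mem_map.mp hb
    apply Subtype.ext
    show π m1 * π m2 = π m2 * π m1
    have h1 : π (m1 * m2 * m1⁻¹ * m2⁻¹) = 1 := by
      rw [hπ1]
      exact hcomm m1 hm1 m2 hm2
    rw [map_mul, map_mul, map_mul, map_inv, map_inv] at h1
    exact mul_inv_eq_iff_eq_mul.mp (mul_inv_eq_one.mp h1)
  · intro b hb
    obtain ⟨m, hm, rfl⟩ := Subgroup.mem_map.mp hb
    rw [← map_pow, hπ1]
    exact hpow m hm

end Cfsg.Agent.Lib.Helper29
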